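import Cfsg.Agent.Helper9.SchTits.Tab

set_option autoImplicit false
set_option linter.all false
set_option maxRecDepth 1000000
set_option maxHeartbeats 0

namespace Cfsg.Agent.Helper9.SchTits

theorem okR1100 : OKR (1100 * 1008) 1008 := by decide +kernel
theorem okR1101 : OKR (1101 * 1008) 1008 := by decide +kernel
theorem okR1102 : OKR (1102 * 1008) 1008 := by decide +kernel
theorem okR1103 : OKR (1103 * 1008) 1008 := by decide +kernel
theorem okR1104 : OKR (1104 * 1008) 1008 := by decide +kernel
theorem okR1105 : OKR (1105 * 1008) 1008 := by decide +kernel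
theorem okR1106 : OKR (1106 * 1008) 1008 := by decide +kernel
theorem okR1107 : OKR (1107 * 1008) 1008 := by decide +kernel
theorem okR1108 : OKR (1108 * 1008) 1008 := by decide +kernel
theorem okR1109 : OKR (1109 * 1008) 1008 := by decide +kernel
theorem okR1110 : OKR (1110 * 1008) 1008 := by decide +kernel

end Cfsg.Agent.Helper9.SchTits
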