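import Cfsg.Agent.Helper9.SchTits.Tab

set_option autoImplicit false
set_option linter.all false
set_option maxRecDepth 1000000
set_option maxHeartbeats 0

namespace Cfsg.Agent.Helper9.SchTits

theorem okR1111 : OKR (1111 * 1008) 1008 := by decide +kernel
theorem okR1112 : OKR (1112 * 1008) 1008 := by decide +kernel
theorem okR1113 : OKR (1113 * 1008) 1008 := by decide +kernel
theorem okR1114 : OKR (1114 * 1008) 1008 := by decide +kernel

end Cfsg.Agent.Helper9.SchTits
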