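import Cfsg.Agent.Helper9.SchTits.Tab

set_option autoImplicit false
set_option linter.all false
set_option maxRecDepth 1000000
set_option maxHeartbeats 0

namespace Cfsg.Agent.Helper9.SchTits

theorem okR165 : OKR (165 * 1008) 1008 := by decide +kernel
theorem okR166 : OKR (166 * 1008) 1008 := by decide +kernel
theorem okR167 : OKR (167 * 1008) 1008 := by decide +kernel
theorem okR168 : OKR (168 * 1008) 1008 := by decide +kernel
theorem okR169 : OKR (169 * 1008) 1008 := by decide +kernel
theorem okR170 : OKR (170 * 1008) 1008 := by decide +kernel
theorem okR171 : OKR (171 * 1008) 1008 := by decide +kernel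
theorem okR172 : OKR (172 * 1008) 1008 := by decide +kernel
theorem okR173 : OKR (173 * 1008) 1008 := by decide +kernel
theorem okR174 : OKR (174 * 1008) 1008 := by decide +kernel
theorem okR175 : OKR (175 * 1008) 1008 := by decide +kernel

end Cfsg.Agent.Helper9.SchTits
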