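import Cfsg.Agent.Helper9.SchTits.Tab

set_option autoImplicit false
set_option linter.all false
set_option maxRecDepth 1000000
set_option maxHeartbeats 0

namespace Cfsg.Agent.Helper9.SchTits

theorem okR209 : OKR (209 * 1008) 1008 := by decide +kernel
theorem okR210 : OKR (210 * 1008) 1008 := by decide +kernel
theorem okR211 : OKR (211 * 1008) 1008 := by decide +kernel
theorem okR212 : OKR (212 * 1008) 1008 := by decide +kernel
theorem okR213 : OKR (213 * 1008) 1008 := by decide +kernel
theorem okR214 : OKR (214 * 1008) 1008 := by decide +kernel
theorem okR215 : OKR (215 * 1008) 1008 := by decide +kernel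
theorem okR216 : OKR (216 * 1008) 1008 := by decide +kernel
theorem okR217 : OKR (217 * 1008) 1008 := by decide +kernel
theorem okR218 : OKR (218 * 1008) 1008 := by decide +kernel
theorem okR219 : OKR (219 * 1008) 1008 := by decide +kernel

end Cfsg.Agent.Helper9.SchTits
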