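import Cfsg.Agent.Helper9.SchTits.Tab

set_option autoImplicit false
set_option linter.all false
set_option maxRecDepth 1000000
set_option maxHeartbeats 0

namespace Cfsg.Agent.Helper9.SchTits

theorem okR253 : OKR (253 * 1008) 1008 := by decide +kernel
theorem okR254 : OKR (254 * 1008) 1008 := by decide +kernel
theorem okR255 : OKR (255 * 1008) 1008 := by decide +kernel
theorem okR256 : OKR (256 * 1008) 1008 := by decide +kernel
theorem okR257 : OKR (257 * 1008) 1008 := by decide +kernel
theorem okR258 : OKR (258 * 1008) 1008 := by decide +kernel
theorem okR259 : OKR (259 * 1008) 1008 := by decide +kernel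
theorem okR260 : OKR (260 * 1008) 1008 := by decide +kernel
theorem okR261 : OKR (261 * 1008) 1008 := by decide +kernel
theorem okR262 : OKR (262 * 1008) 1008 := by decide +kernel
theorem okR263 : OKR (263 * 1008) 1008 := by decide +kernel

end Cfsg.Agent.Helper9.SchTits
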