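import Cfsg.Agent.Helper9.SchTits.Tab

set_option autoImplicit false
set_option linter.all false
set_option maxRecDepth 1000000
set_option maxHeartbeats 0

namespace Cfsg.Agent.Helper9.SchTits

theorem okR264 : OKR (264 * 1008) 1008 := by decide +kernel
theorem okR265 : OKR (265 * 1008) 1008 := by decide +kernel
theorem okR266 : OKR (266 * 1008) 1008 := by decide +kernel
theorem okR267 : OKR (267 * 1008) 1008 := by decide +kernel
theorem okR268 : OKR (268 * 1008) 1008 := by decide +kernel
theorem okR269 : OKR (269 * 1008) 1008 := by decide +kernel
theorem okR270 : OKR (270 * 1008) 1008 := by decide +kernel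
theorem okR271 : OKR (271 * 1008) 1008 := by decide +kernel
theorem okR272 : OKR (272 * 1008) 1008 := by decide +kernel
theorem okR273 : OKR (273 * 1008) 1008 := by decide +kernel
theorem okR274 : OKR (274 * 1008) 1008 := by decide +kernel

end Cfsg.Agent.Helper9.SchTits
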