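import Cfsg.Agent.Helper9.SchTits.Tab

set_option autoImplicit false
set_option linter.all false
set_option maxRecDepth 1000000
set_option maxHeartbeats 0

namespace Cfsg.Agent.Helper9.SchTits

theorem okR297 : OKR (297 * 1008) 1008 := by decide +kernel
theorem okR298 : OKR (298 * 1008) 1008 := by decide +kernel
theorem okR299 : OKR (299 * 1008) 1008 := by decide +kernel
theorem okR300 : OKR (300 * 1008) 1008 := by decide +kernel
theorem okR301 : OKR (301 * 1008) 1008 := by decide +kernel
theorem okR302 : OKR (302 * 1008) 1008 := by decide +kernel
theorem okR303 : OKR (303 * 1008) 1008 := by decide +kernel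
theorem okR304 : OKR (304 * 1008) 1008 := by decide +kernel
theorem okR305 : OKR (305 * 1008) 1008 := by decide +kernel
theorem okR306 : OKR (306 * 1008) 1008 := by decide +kernel
theorem okR307 : OKR (307 * 1008) 1008 := by decide +kernel

end Cfsg.Agent.Helper9.SchTits
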