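import Cfsg.Agent.Helper9.SchTits.Tab

set_option autoImplicit false
set_option linter.all false
set_option maxRecDepth 1000000
set_option maxHeartbeats 0

namespace Cfsg.Agent.Helper9.SchTits

theorem okR308 : OKR (308 * 1008) 1008 := by decide +kernel
theorem okR309 : OKR (309 * 1008) 1008 := by decide +kernel
theorem okR310 : OKR (310 * 1008) 1008 := by decide +kernel
theorem okR311 : OKR (311 * 1008) 1008 := by decide +kernel
theorem okR312 : OKR (312 * 1008) 1008 := by decide +kernel
theorem okR313 : OKR (313 * 1008) 1008 := by decide +kernel
theorem okR314 : OKR (314 * 1008) 1008 := by decide +kernel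
theorem okR315 : OKR (315 * 1008) 1008 := by decide +kernel
theorem okR316 : OKR (316 * 1008) 1008 := by decide +kernel
theorem okR317 : OKR (317 * 1008) 1008 := by decide +kernel
theorem okR318 : OKR (318 * 1008) 1008 := by decide +kernel

end Cfsg.Agent.Helper9.SchTits
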