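import Cfsg.Agent.Helper9.SchTits.Tab

set_option autoImplicit false
set_option linter.all false
set_option maxRecDepth 1000000
set_option maxHeartbeats 0

namespace Cfsg.Agent.Helper9.SchTits

theorem okR352 : OKR (352 * 1008) 1008 := by decide +kernel
theorem okR353 : OKR (353 * 1008) 1008 := by decide +kernel
theorem okR354 : OKR (354 * 1008) 1008 := by decide +kernel
theorem okR355 : OKR (355 * 1008) 1008 := by decide +kernel
theorem okR356 : OKR (356 * 1008) 1008 := by decide +kernel
theorem okR357 : OKR (357 * 1008) 1008 := by decide +kernel
theorem okR358 : OKR (358 * 1008) 1008 := by decide +kernel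
theorem okR359 : OKR (359 * 1008) 1008 := by decide +kernel
theorem okR360 : OKR (360 * 1008) 1008 := by decide +kernel
theorem okR361 : OKR (361 * 1008) 1008 := by decide +kernel
theorem okR362 : OKR (362 * 1008) 1008 := by decide +kernel

end Cfsg.Agent.Helper9.SchTits
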