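import Cfsg.Agent.Helper9.SchTits.Tab

set_option autoImplicit false
set_option linter.all false
set_option maxRecDepth 1000000
set_option maxHeartbeats 0

namespace Cfsg.Agent.Helper9.SchTits

theorem okR385 : OKR (385 * 1008) 1008 := by decide +kernel
theorem okR386 : OKR (386 * 1008) 1008 := by decide +kernel
theorem okR387 : OKR (387 * 1008) 1008 := by decide +kernel
theorem okR388 : OKR (388 * 1008) 1008 := by decide +kernel
theorem okR389 : OKR (389 * 1008) 1008 := by decide +kernel
theorem okR390 : OKR (390 * 1008) 1008 := by decide +kernel
theorem okR391 : OKR (391 * 1008) 1008 := by decide +kernel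
theorem okR392 : OKR (392 * 1008) 1008 := by decide +kernel
theorem okR393 : OKR (393 * 1008) 1008 := by decide +kernel
theorem okR394 : OKR (394 * 1008) 1008 := by decide +kernel
theorem okR395 : OKR (395 * 1008) 1008 := by decide +kernel

end Cfsg.Agent.Helper9.SchTits
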