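import Cfsg.Agent.Helper9.SchTits.Tab

set_option autoImplicit false
set_option linter.all false
set_option maxRecDepth 1000000
set_option maxHeartbeats 0

namespace Cfsg.Agent.Helper9.SchTits

theorem okR396 : OKR (396 * 1008) 1008 := by decide +kernel
theorem okR397 : OKR (397 * 1008) 1008 := by decide +kernel
theorem okR398 : OKR (398 * 1008) 1008 := by decide +kernel
theorem okR399 : OKR (399 * 1008) 1008 := by decide +kernel
theorem okR400 : OKR (400 * 1008) 1008 := by decide +kernel
theorem okR401 : OKR (401 * 1008) 1008 := by decide +kernel
theorem okR402 : OKR (402 * 1008) 1008 := by decide +kernel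
theorem okR403 : OKR (403 * 1008) 1008 := by decide +kernel
theorem okR404 : OKR (404 * 1008) 1008 := by decide +kernel
theorem okR405 : OKR (405 * 1008) 1008 := by decide +kernel
theorem okR406 : OKR (406 * 1008) 1008 := by decide +kernel

end Cfsg.Agent.Helper9.SchTits
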