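import Cfsg.Agent.Helper9.SchTits.Tab

set_option autoImplicit false
set_option linter.all false
set_option maxRecDepth 1000000
set_option maxHeartbeats 0

namespace Cfsg.Agent.Helper9.SchTits

theorem okR451 : OKR (451 * 1008) 1008 := by decide +kernel
theorem okR452 : OKR (452 * 1008) 1008 := by decide +kernel
theorem okR453 : OKR (453 * 1008) 1008 := by decide +kernel
theorem okR454 : OKR (454 * 1008) 1008 := by decide +kernel
theorem okR455 : OKR (455 * 1008) 1008 := by decide +kernel
theorem okR456 : OKR (456 * 1008) 1008 := by decide +kernel
theorem okR457 : OKR (457 * 1008) 1008 := by decide +kernel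
theorem okR458 : OKR (458 * 1008) 1008 := by decide +kernel
theorem okR459 : OKR (459 * 1008) 1008 := by decide +kernel
theorem okR460 : OKR (460 * 1008) 1008 := by decide +kernel
theorem okR461 : OKR (461 * 1008) 1008 := by decide +kernel

end Cfsg.Agent.Helper9.SchTits
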