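import Cfsg.Agent.Helper9.SchTits.Tab

set_option autoImplicit false
set_option linter.all false
set_option maxRecDepth 1000000
set_option maxHeartbeats 0

namespace Cfsg.Agent.Helper9.SchTits

theorem okR462 : OKR (462 * 1008) 1008 := by decide +kernel
theorem okR463 : OKR (463 * 1008) 1008 := by decide +kernel
theorem okR464 : OKR (464 * 1008) 1008 := by decide +kernel
theorem okR465 : OKR (465 * 1008) 1008 := by decide +kernel
theorem okR466 : OKR (466 * 1008) 1008 := by decide +kernel
theorem okR467 : OKR (467 * 1008) 1008 := by decide +kernel
theorem okR468 : OKR (468 * 1008) 1008 := by decide +kernel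
theorem okR469 : OKR (469 * 1008) 1008 := by decide +kernel
theorem okR470 : OKR (470 * 1008) 1008 := by decide +kernel
theorem okR471 : OKR (471 * 1008) 1008 := by decide +kernel
theorem okR472 : OKR (472 * 1008) 1008 := by decide +kernel

end Cfsg.Agent.Helper9.SchTits
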