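import Cfsg.Agent.Helper9.SchTits.Tab

set_option autoImplicit false
set_option linter.all false
set_option maxRecDepth 1000000
set_option maxHeartbeats 0

namespace Cfsg.Agent.Helper9.SchTits

theorem okR495 : OKR (495 * 1008) 1008 := by decide +kernel
theorem okR496 : OKR (496 * 1008) 1008 := by decide +kernel
theorem okR497 : OKR (497 * 1008) 1008 := by decide +kernel
theorem okR498 : OKR (498 * 1008) 1008 := by decide +kernel
theorem okR499 : OKR (499 * 1008) 1008 := by decide +kernel
theorem okR500 : OKR (500 * 1008) 1008 := by decide +kernel
theorem okR501 : OKR (501 * 1008) 1008 := by decide +kernel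
theorem okR502 : OKR (502 * 1008) 1008 := by decide +kernel
theorem okR503 : OKR (503 * 1008) 1008 := by decide +kernel
theorem okR504 : OKR (504 * 1008) 1008 := by decide +kernel
theorem okR505 : OKR (505 * 1008) 1008 := by decide +kernel

end Cfsg.Agent.Helper9.SchTits
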