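import Cfsg.Agent.Helper9.SchTits.Tab

set_option autoImplicit false
set_option linter.all false
set_option maxRecDepth 1000000
set_option maxHeartbeats 0

namespace Cfsg.Agent.Helper9.SchTits

theorem okR506 : OKR (506 * 1008) 1008 := by decide +kernel
theorem okR507 : OKR (507 * 1008) 1008 := by decide +kernel
theorem okR508 : OKR (508 * 1008) 1008 := by decide +kernel
theorem okR509 : OKR (509 * 1008) 1008 := by decide +kernel
theorem okR510 : OKR (510 * 1008) 1008 := by decide +kernel
theorem okR511 : OKR (511 * 1008) 1008 := by decide +kernel
theorem okR512 : OKR (512 * 1008) 1008 := by decide +kernel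
theorem okR513 : OKR (513 * 1008) 1008 := by decide +kernel
theorem okR514 : OKR (514 * 1008) 1008 := by decide +kernel
theorem okR515 : OKR (515 * 1008) 1008 := by decide +kernel
theorem okR516 : OKR (516 * 1008) 1008 := by decide +kernel

end Cfsg.Agent.Helper9.SchTits
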