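import Cfsg.Agent.Helper9.SchTits.Tab

set_option autoImplicit false
set_option linter.all false
set_option maxRecDepth 1000000
set_option maxHeartbeats 0

namespace Cfsg.Agent.Helper9.SchTits

theorem okR539 : OKR (539 * 1008) 1008 := by decide +kernel
theorem okR540 : OKR (540 * 1008) 1008 := by decide +kernel
theorem okR541 : OKR (541 * 1008) 1008 := by decide +kernel
theorem okR542 : OKR (542 * 1008) 1008 := by decide +kernel
theorem okR543 : OKR (543 * 1008) 1008 := by decide +kernel
theorem okR544 : OKR (544 * 1008) 1008 := by decide +kernel
theorem okR545 : OKR (545 * 1008) 1008 := by decide +kernel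
theorem okR546 : OKR (546 * 1008) 1008 := by decide +kernel
theorem okR547 : OKR (547 * 1008) 1008 := by decide +kernel
theorem okR548 : OKR (548 * 1008) 1008 := by decide +kernel
theorem okR549 : OKR (549 * 1008) 1008 := by decide +kernel

end Cfsg.Agent.Helper9.SchTits
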