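import Cfsg.Agent.Helper9.SchTits.Tab

set_option autoImplicit false
set_option linter.all false
set_option maxRecDepth 1000000
set_option maxHeartbeats 0

namespace Cfsg.Agent.Helper9.SchTits

theorem okR561 : OKR (561 * 1008) 1008 := by decide +kernel
theorem okR562 : OKR (562 * 1008) 1008 := by decide +kernel
theorem okR563 : OKR (563 * 1008) 1008 := by decide +kernel
theorem okR564 : OKR (564 * 1008) 1008 := by decide +kernel
theorem okR565 : OKR (565 * 1008) 1008 := by decide +kernel
theorem okR566 : OKR (566 * 1008) 1008 := by decide +kernel
theorem okR567 : OKR (567 * 1008) 1008 := by decide +kernel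
theorem okR568 : OKR (568 * 1008) 1008 := by decide +kernel
theorem okR569 : OKR (569 * 1008) 1008 := by decide +kernel
theorem okR570 : OKR (570 * 1008) 1008 := by decide +kernel
theorem okR571 : OKR (571 * 1008) 1008 := by decide +kernel

end Cfsg.Agent.Helper9.SchTits
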