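import Cfsg.Agent.Helper9.SchTits.Tab

set_option autoImplicit false
set_option linter.all false
set_option maxRecDepth 1000000
set_option maxHeartbeats 0

namespace Cfsg.Agent.Helper9.SchTits

theorem okR583 : OKR (583 * 1008) 1008 := by decide +kernel
theorem okR584 : OKR (584 * 1008) 1008 := by decide +kernel
theorem okR585 : OKR (585 * 1008) 1008 := by decide +kernel
theorem okR586 : OKR (586 * 1008) 1008 := by decide +kernel
theorem okR587 : OKR (587 * 1008) 1008 := by decide +kernel
theorem okR588 : OKR (588 * 1008) 1008 := by decide +kernel
theorem okR589 : OKR (589 * 1008) 1008 := by decide +kernel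
theorem okR590 : OKR (590 * 1008) 1008 := by decide +kernel
theorem okR591 : OKR (591 * 1008) 1008 := by decide +kernel
theorem okR592 : OKR (592 * 1008) 1008 := by decide +kernel
theorem okR593 : OKR (593 * 1008) 1008 := by decide +kernel

end Cfsg.Agent.Helper9.SchTits
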