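import Cfsg.Agent.Helper9.SchTits.Tab

set_option autoImplicit false
set_option linter.all false
set_option maxRecDepth 1000000
set_option maxHeartbeats 0

namespace Cfsg.Agent.Helper9.SchTits

theorem okR594 : OKR (594 * 1008) 1008 := by decide +kernel
theorem okR595 : OKR (595 * 1008) 1008 := by decide +kernel
theorem okR596 : OKR (596 * 1008) 1008 := by decide +kernel
theorem okR597 : OKR (597 * 1008) 1008 := by decide +kernel
theorem okR598 : OKR (598 * 1008) 1008 := by decide +kernel
theorem okR599 : OKR (599 * 1008) 1008 := by decide +kernel
theorem okR600 : OKR (600 * 1008) 1008 := by decide +kernel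
theorem okR601 : OKR (601 * 1008) 1008 := by decide +kernel
theorem okR602 : OKR (602 * 1008) 1008 := by decide +kernel
theorem okR603 : OKR (603 * 1008) 1008 := by decide +kernel
theorem okR604 : OKR (604 * 1008) 1008 := by decide +kernel

end Cfsg.Agent.Helper9.SchTits
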