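import Cfsg.Agent.Helper9.SchTits.Tab

set_option autoImplicit false
set_option linter.all false
set_option maxRecDepth 1000000
set_option maxHeartbeats 0

namespace Cfsg.Agent.Helper9.SchTits

theorem okR605 : OKR (605 * 1008) 1008 := by decide +kernel
theorem okR606 : OKR (606 * 1008) 1008 := by decide +kernel
theorem okR607 : OKR (607 * 1008) 1008 := by decide +kernel
theorem okR608 : OKR (608 * 1008) 1008 := by decide +kernel
theorem okR609 : OKR (609 * 1008) 1008 := by decide +kernel
theorem okR610 : OKR (610 * 1008) 1008 := by decide +kernel
theorem okR611 : OKR (611 * 1008) 1008 := by decide +kernel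
theorem okR612 : OKR (612 * 1008) 1008 := by decide +kernel
theorem okR613 : OKR (613 * 1008) 1008 := by decide +kernel
theorem okR614 : OKR (614 * 1008) 1008 := by decide +kernel
theorem okR615 : OKR (615 * 1008) 1008 := by decide +kernel

end Cfsg.Agent.Helper9.SchTits
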