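import Cfsg.Agent.Helper9.SchTits.Tab

set_option autoImplicit false
set_option linter.all false
set_option maxRecDepth 1000000
set_option maxHeartbeats 0

namespace Cfsg.Agent.Helper9.SchTits

theorem okR616 : OKR (616 * 1008) 1008 := by decide +kernel
theorem okR617 : OKR (617 * 1008) 1008 := by decide +kernel
theorem okR618 : OKR (618 * 1008) 1008 := by decide +kernel
theorem okR619 : OKR (619 * 1008) 1008 := by decide +kernel
theorem okR620 : OKR (620 * 1008) 1008 := by decide +kernel
theorem okR621 : OKR (621 * 1008) 1008 := by decide +kernel
theorem okR622 : OKR (622 * 1008) 1008 := by decide +kernel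
theorem okR623 : OKR (623 * 1008) 1008 := by decide +kernel
theorem okR624 : OKR (624 * 1008) 1008 := by decide +kernel
theorem okR625 : OKR (625 * 1008) 1008 := by decide +kernel
theorem okR626 : OKR (626 * 1008) 1008 := by decide +kernel

end Cfsg.Agent.Helper9.SchTits
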