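import Cfsg.Agent.Helper9.SchTits.Tab

set_option autoImplicit false
set_option linter.all false
set_option maxRecDepth 1000000
set_option maxHeartbeats 0

namespace Cfsg.Agent.Helper9.SchTits

theorem okR627 : OKR (627 * 1008) 1008 := by decide +kernel
theorem okR628 : OKR (628 * 1008) 1008 := by decide +kernel
theorem okR629 : OKR (629 * 1008) 1008 := by decide +kernel
theorem okR630 : OKR (630 * 1008) 1008 := by decide +kernel
theorem okR631 : OKR (631 * 1008) 1008 := by decide +kernel
theorem okR632 : OKR (632 * 1008) 1008 := by decide +kernel
theorem okR633 : OKR (633 * 1008) 1008 := by decide +kernel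
theorem okR634 : OKR (634 * 1008) 1008 := by decide +kernel
theorem okR635 : OKR (635 * 1008) 1008 := by decide +kernel
theorem okR636 : OKR (636 * 1008) 1008 := by decide +kernel
theorem okR637 : OKR (637 * 1008) 1008 := by decide +kernel

end Cfsg.Agent.Helper9.SchTits
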