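import Cfsg.Agent.Helper9.SchTits.Tab

set_option autoImplicit false
set_option linter.all false
set_option maxRecDepth 1000000
set_option maxHeartbeats 0

namespace Cfsg.Agent.Helper9.SchTits

theorem okR638 : OKR (638 * 1008) 1008 := by decide +kernel
theorem okR639 : OKR (639 * 1008) 1008 := by decide +kernel
theorem okR640 : OKR (640 * 1008) 1008 := by decide +kernel
theorem okR641 : OKR (641 * 1008) 1008 := by decide +kernel
theorem okR642 : OKR (642 * 1008) 1008 := by decide +kernel
theorem okR643 : OKR (643 * 1008) 1008 := by decide +kernel
theorem okR644 : OKR (644 * 1008) 1008 := by decide +kernel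
theorem okR645 : OKR (645 * 1008) 1008 := by decide +kernel
theorem okR646 : OKR (646 * 1008) 1008 := by decide +kernel
theorem okR647 : OKR (647 * 1008) 1008 := by decide +kernel
theorem okR648 : OKR (648 * 1008) 1008 := by decide +kernel

end Cfsg.Agent.Helper9.SchTits
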