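import Cfsg.Agent.Helper9.SchTits.Tab

set_option autoImplicit false
set_option linter.all false
set_option maxRecDepth 1000000
set_option maxHeartbeats 0

namespace Cfsg.Agent.Helper9.SchTits

theorem okR66 : OKR (66 * 1008) 1008 := by decide +kernel
theorem okR67 : OKR (67 * 1008) 1008 := by decide +kernel
theorem okR68 : OKR (68 * 1008) 1008 := by decide +kernel
theorem okR69 : OKR (69 * 1008) 1008 := by decide +kernel
theorem okR70 : OKR (70 * 1008) 1008 := by decide +kernel
theorem okR71 : OKR (71 * 1008) 1008 := by decide +kernel
theorem okR72 : OKR (72 * 1008) 1008 := by decide +kernel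
theorem okR73 : OKR (73 * 1008) 1008 := by decide +kernel
theorem okR74 : OKR (74 * 1008) 1008 := by decide +kernel
theorem okR75 : OKR (75 * 1008) 1008 := by decide +kernel
theorem okR76 : OKR (76 * 1008) 1008 := by decide +kernel

end Cfsg.Agent.Helper9.SchTits
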