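import Cfsg.Agent.Helper9.SchTits.Tab

set_option autoImplicit false
set_option linter.all false
set_option maxRecDepth 1000000
set_option maxHeartbeats 0

namespace Cfsg.Agent.Helper9.SchTits

theorem okR660 : OKR (660 * 1008) 1008 := by decide +kernel
theorem okR661 : OKR (661 * 1008) 1008 := by decide +kernel
theorem okR662 : OKR (662 * 1008) 1008 := by decide +kernel
theorem okR663 : OKR (663 * 1008) 1008 := by decide +kernel
theorem okR664 : OKR (664 * 1008) 1008 := by decide +kernel
theorem okR665 : OKR (665 * 1008) 1008 := by decide +kernel
theorem okR666 : OKR (666 * 1008) 1008 := by decide +kernel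
theorem okR667 : OKR (667 * 1008) 1008 := by decide +kernel
theorem okR668 : OKR (668 * 1008) 1008 := by decide +kernel
theorem okR669 : OKR (669 * 1008) 1008 := by decide +kernel
theorem okR670 : OKR (670 * 1008) 1008 := by decide +kernel

end Cfsg.Agent.Helper9.SchTits
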