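import Cfsg.Agent.Helper9.SchTits.Tab

set_option autoImplicit false
set_option linter.all false
set_option maxRecDepth 1000000
set_option maxHeartbeats 0

namespace Cfsg.Agent.Helper9.SchTits

theorem okR671 : OKR (671 * 1008) 1008 := by decide +kernel
theorem okR672 : OKR (672 * 1008) 1008 := by decide +kernel
theorem okR673 : OKR (673 * 1008) 1008 := by decide +kernel
theorem okR674 : OKR (674 * 1008) 1008 := by decide +kernel
theorem okR675 : OKR (675 * 1008) 1008 := by decide +kernel
theorem okR676 : OKR (676 * 1008) 1008 := by decide +kernel
theorem okR677 : OKR (677 * 1008) 1008 := by decide +kernel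
theorem okR678 : OKR (678 * 1008) 1008 := by decide +kernel
theorem okR679 : OKR (679 * 1008) 1008 := by decide +kernel
theorem okR680 : OKR (680 * 1008) 1008 := by decide +kernel
theorem okR681 : OKR (681 * 1008) 1008 := by decide +kernel

end Cfsg.Agent.Helper9.SchTits
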