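import Cfsg.Agent.Helper9.SchTits.Tab

set_option autoImplicit false
set_option linter.all false
set_option maxRecDepth 1000000
set_option maxHeartbeats 0

namespace Cfsg.Agent.Helper9.SchTits

theorem okR682 : OKR (682 * 1008) 1008 := by decide +kernel
theorem okR683 : OKR (683 * 1008) 1008 := by decide +kernel
theorem okR684 : OKR (684 * 1008) 1008 := by decide +kernel
theorem okR685 : OKR (685 * 1008) 1008 := by decide +kernel
theorem okR686 : OKR (686 * 1008) 1008 := by decide +kernel
theorem okR687 : OKR (687 * 1008) 1008 := by decide +kernel
theorem okR688 : OKR (688 * 1008) 1008 := by decide +kernel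
theorem okR689 : OKR (689 * 1008) 1008 := by decide +kernel
theorem okR690 : OKR (690 * 1008) 1008 := by decide +kernel
theorem okR691 : OKR (691 * 1008) 1008 := by decide +kernel
theorem okR692 : OKR (692 * 1008) 1008 := by decide +kernel

end Cfsg.Agent.Helper9.SchTits
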