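import Cfsg.Agent.Helper9.SchTits.Tab

set_option autoImplicit false
set_option linter.all false
set_option maxRecDepth 1000000
set_option maxHeartbeats 0

namespace Cfsg.Agent.Helper9.SchTits

theorem okR693 : OKR (693 * 1008) 1008 := by decide +kernel
theorem okR694 : OKR (694 * 1008) 1008 := by decide +kernel
theorem okR695 : OKR (695 * 1008) 1008 := by decide +kernel
theorem okR696 : OKR (696 * 1008) 1008 := by decide +kernel
theorem okR697 : OKR (697 * 1008) 1008 := by decide +kernel
theorem okR698 : OKR (698 * 1008) 1008 := by decide +kernel
theorem okR699 : OKR (699 * 1008) 1008 := by decide +kernel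
theorem okR700 : OKR (700 * 1008) 1008 := by decide +kernel
theorem okR701 : OKR (701 * 1008) 1008 := by decide +kernel
theorem okR702 : OKR (702 * 1008) 1008 := by decide +kernel
theorem okR703 : OKR (703 * 1008) 1008 := by decide +kernel

end Cfsg.Agent.Helper9.SchTits
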