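import Cfsg.Agent.Helper9.SchTits.Tab

set_option autoImplicit false
set_option linter.all false
set_option maxRecDepth 1000000
set_option maxHeartbeats 0

namespace Cfsg.Agent.Helper9.SchTits

theorem okR704 : OKR (704 * 1008) 1008 := by decide +kernel
theorem okR705 : OKR (705 * 1008) 1008 := by decide +kernel
theorem okR706 : OKR (706 * 1008) 1008 := by decide +kernel
theorem okR707 : OKR (707 * 1008) 1008 := by decide +kernel
theorem okR708 : OKR (708 * 1008) 1008 := by decide +kernel
theorem okR709 : OKR (709 * 1008) 1008 := by decide +kernel
theorem okR710 : OKR (710 * 1008) 1008 := by decide +kernel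
theorem okR711 : OKR (711 * 1008) 1008 := by decide +kernel
theorem okR712 : OKR (712 * 1008) 1008 := by decide +kernel
theorem okR713 : OKR (713 * 1008) 1008 := by decide +kernel
theorem okR714 : OKR (714 * 1008) 1008 := by decide +kernel

end Cfsg.Agent.Helper9.SchTits
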