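import Cfsg.Agent.Helper9.SchTits.Tab

set_option autoImplicit false
set_option linter.all false
set_option maxRecDepth 1000000
set_option maxHeartbeats 0

namespace Cfsg.Agent.Helper9.SchTits

theorem okR715 : OKR (715 * 1008) 1008 := by decide +kernel
theorem okR716 : OKR (716 * 1008) 1008 := by decide +kernel
theorem okR717 : OKR (717 * 1008) 1008 := by decide +kernel
theorem okR718 : OKR (718 * 1008) 1008 := by decide +kernel
theorem okR719 : OKR (719 * 1008) 1008 := by decide +kernel
theorem okR720 : OKR (720 * 1008) 1008 := by decide +kernel
theorem okR721 : OKR (721 * 1008) 1008 := by decide +kernel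
theorem okR722 : OKR (722 * 1008) 1008 := by decide +kernel
theorem okR723 : OKR (723 * 1008) 1008 := by decide +kernel
theorem okR724 : OKR (724 * 1008) 1008 := by decide +kernel
theorem okR725 : OKR (725 * 1008) 1008 := by decide +kernel

end Cfsg.Agent.Helper9.SchTits
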