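import Cfsg.Agent.Helper9.SchTits.Tab

set_option autoImplicit false
set_option linter.all false
set_option maxRecDepth 1000000
set_option maxHeartbeats 0

namespace Cfsg.Agent.Helper9.SchTits

theorem okR726 : OKR (726 * 1008) 1008 := by decide +kernel
theorem okR727 : OKR (727 * 1008) 1008 := by decide +kernel
theorem okR728 : OKR (728 * 1008) 1008 := by decide +kernel
theorem okR729 : OKR (729 * 1008) 1008 := by decide +kernel
theorem okR730 : OKR (730 * 1008) 1008 := by decide +kernel
theorem okR731 : OKR (731 * 1008) 1008 := by decide +kernel
theorem okR732 : OKR (732 * 1008) 1008 := by decide +kernel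
theorem okR733 : OKR (733 * 1008) 1008 := by decide +kernel
theorem okR734 : OKR (734 * 1008) 1008 := by decide +kernel
theorem okR735 : OKR (735 * 1008) 1008 := by decide +kernel
theorem okR736 : OKR (736 * 1008) 1008 := by decide +kernel

end Cfsg.Agent.Helper9.SchTits
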