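import Cfsg.Agent.Helper9.SchTits.Tab

set_option autoImplicit false
set_option linter.all false
set_option maxRecDepth 1000000
set_option maxHeartbeats 0

namespace Cfsg.Agent.Helper9.SchTits

theorem okR737 : OKR (737 * 1008) 1008 := by decide +kernel
theorem okR738 : OKR (738 * 1008) 1008 := by decide +kernel
theorem okR739 : OKR (739 * 1008) 1008 := by decide +kernel
theorem okR740 : OKR (740 * 1008) 1008 := by decide +kernel
theorem okR741 : OKR (741 * 1008) 1008 := by decide +kernel
theorem okR742 : OKR (742 * 1008) 1008 := by decide +kernel
theorem okR743 : OKR (743 * 1008) 1008 := by decide +kernel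
theorem okR744 : OKR (744 * 1008) 1008 := by decide +kernel
theorem okR745 : OKR (745 * 1008) 1008 := by decide +kernel
theorem okR746 : OKR (746 * 1008) 1008 := by decide +kernel
theorem okR747 : OKR (747 * 1008) 1008 := by decide +kernel

end Cfsg.Agent.Helper9.SchTits
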