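import Cfsg.Agent.Helper9.SchTits.Tab

set_option autoImplicit false
set_option linter.all false
set_option maxRecDepth 1000000
set_option maxHeartbeats 0

namespace Cfsg.Agent.Helper9.SchTits

theorem okR748 : OKR (748 * 1008) 1008 := by decide +kernel
theorem okR749 : OKR (749 * 1008) 1008 := by decide +kernel
theorem okR750 : OKR (750 * 1008) 1008 := by decide +kernel
theorem okR751 : OKR (751 * 1008) 1008 := by decide +kernel
theorem okR752 : OKR (752 * 1008) 1008 := by decide +kernel
theorem okR753 : OKR (753 * 1008) 1008 := by decide +kernel
theorem okR754 : OKR (754 * 1008) 1008 := by decide +kernel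
theorem okR755 : OKR (755 * 1008) 1008 := by decide +kernel
theorem okR756 : OKR (756 * 1008) 1008 := by decide +kernel
theorem okR757 : OKR (757 * 1008) 1008 := by decide +kernel
theorem okR758 : OKR (758 * 1008) 1008 := by decide +kernel

end Cfsg.Agent.Helper9.SchTits
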