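import Cfsg.Agent.Helper9.SchTits.Tab

set_option autoImplicit false
set_option linter.all false
set_option maxRecDepth 1000000
set_option maxHeartbeats 0

namespace Cfsg.Agent.Helper9.SchTits

theorem okR759 : OKR (759 * 1008) 1008 := by decide +kernel
theorem okR760 : OKR (760 * 1008) 1008 := by decide +kernel
theorem okR761 : OKR (761 * 1008) 1008 := by decide +kernel
theorem okR762 : OKR (762 * 1008) 1008 := by decide +kernel
theorem okR763 : OKR (763 * 1008) 1008 := by decide +kernel
theorem okR764 : OKR (764 * 1008) 1008 := by decide +kernel
theorem okR765 : OKR (765 * 1008) 1008 := by decide +kernel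
theorem okR766 : OKR (766 * 1008) 1008 := by decide +kernel
theorem okR767 : OKR (767 * 1008) 1008 := by decide +kernel
theorem okR768 : OKR (768 * 1008) 1008 := by decide +kernel
theorem okR769 : OKR (769 * 1008) 1008 := by decide +kernel

end Cfsg.Agent.Helper9.SchTits
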