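import Cfsg.Agent.Helper9.SchTits.Tab

set_option autoImplicit false
set_option linter.all false
set_option maxRecDepth 1000000
set_option maxHeartbeats 0

namespace Cfsg.Agent.Helper9.SchTits

theorem okR770 : OKR (770 * 1008) 1008 := by decide +kernel
theorem okR771 : OKR (771 * 1008) 1008 := by decide +kernel
theorem okR772 : OKR (772 * 1008) 1008 := by decide +kernel
theorem okR773 : OKR (773 * 1008) 1008 := by decide +kernel
theorem okR774 : OKR (774 * 1008) 1008 := by decide +kernel
theorem okR775 : OKR (775 * 1008) 1008 := by decide +kernel
theorem okR776 : OKR (776 * 1008) 1008 := by decide +kernel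
theorem okR777 : OKR (777 * 1008) 1008 := by decide +kernel
theorem okR778 : OKR (778 * 1008) 1008 := by decide +kernel
theorem okR779 : OKR (779 * 1008) 1008 := by decide +kernel
theorem okR780 : OKR (780 * 1008) 1008 := by decide +kernel

end Cfsg.Agent.Helper9.SchTits
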