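import Cfsg.Agent.Helper9.SchTits.Tab

set_option autoImplicit false
set_option linter.all false
set_option maxRecDepth 1000000
set_option maxHeartbeats 0

namespace Cfsg.Agent.Helper9.SchTits

theorem okR781 : OKR (781 * 1008) 1008 := by decide +kernel
theorem okR782 : OKR (782 * 1008) 1008 := by decide +kernel
theorem okR783 : OKR (783 * 1008) 1008 := by decide +kernel
theorem okR784 : OKR (784 * 1008) 1008 := by decide +kernel
theorem okR785 : OKR (785 * 1008) 1008 := by decide +kernel
theorem okR786 : OKR (786 * 1008) 1008 := by decide +kernel
theorem okR787 : OKR (787 * 1008) 1008 := by decide +kernel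
theorem okR788 : OKR (788 * 1008) 1008 := by decide +kernel
theorem okR789 : OKR (789 * 1008) 1008 := by decide +kernel
theorem okR790 : OKR (790 * 1008) 1008 := by decide +kernel
theorem okR791 : OKR (791 * 1008) 1008 := by decide +kernel

end Cfsg.Agent.Helper9.SchTits
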