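import Cfsg.Agent.Helper9.SchTits.Tab

set_option autoImplicit false
set_option linter.all false
set_option maxRecDepth 1000000
set_option maxHeartbeats 0

namespace Cfsg.Agent.Helper9.SchTits

theorem okR792 : OKR (792 * 1008) 1008 := by decide +kernel
theorem okR793 : OKR (793 * 1008) 1008 := by decide +kernel
theorem okR794 : OKR (794 * 1008) 1008 := by decide +kernel
theorem okR795 : OKR (795 * 1008) 1008 := by decide +kernel
theorem okR796 : OKR (796 * 1008) 1008 := by decide +kernel
theorem okR797 : OKR (797 * 1008) 1008 := by decide +kernel
theorem okR798 : OKR (798 * 1008) 1008 := by decide +kernel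
theorem okR799 : OKR (799 * 1008) 1008 := by decide +kernel
theorem okR800 : OKR (800 * 1008) 1008 := by decide +kernel
theorem okR801 : OKR (801 * 1008) 1008 := by decide +kernel
theorem okR802 : OKR (802 * 1008) 1008 := by decide +kernel

end Cfsg.Agent.Helper9.SchTits
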