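import Cfsg.Agent.Helper9.SchTits.Tab

set_option autoImplicit false
set_option linter.all false
set_option maxRecDepth 1000000
set_option maxHeartbeats 0

namespace Cfsg.Agent.Helper9.SchTits

theorem okR803 : OKR (803 * 1008) 1008 := by decide +kernel
theorem okR804 : OKR (804 * 1008) 1008 := by decide +kernel
theorem okR805 : OKR (805 * 1008) 1008 := by decide +kernel
theorem okR806 : OKR (806 * 1008) 1008 := by decide +kernel
theorem okR807 : OKR (807 * 1008) 1008 := by decide +kernel
theorem okR808 : OKR (808 * 1008) 1008 := by decide +kernel
theorem okR809 : OKR (809 * 1008) 1008 := by decide +kernel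
theorem okR810 : OKR (810 * 1008) 1008 := by decide +kernel
theorem okR811 : OKR (811 * 1008) 1008 := by decide +kernel
theorem okR812 : OKR (812 * 1008) 1008 := by decide +kernel
theorem okR813 : OKR (813 * 1008) 1008 := by decide +kernel

end Cfsg.Agent.Helper9.SchTits
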