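import Cfsg.Agent.Helper9.SchTits.Tab

set_option autoImplicit false
set_option linter.all false
set_option maxRecDepth 1000000
set_option maxHeartbeats 0

namespace Cfsg.Agent.Helper9.SchTits

theorem okR814 : OKR (814 * 1008) 1008 := by decide +kernel
theorem okR815 : OKR (815 * 1008) 1008 := by decide +kernel
theorem okR816 : OKR (816 * 1008) 1008 := by decide +kernel
theorem okR817 : OKR (817 * 1008) 1008 := by decide +kernel
theorem okR818 : OKR (818 * 1008) 1008 := by decide +kernel
theorem okR819 : OKR (819 * 1008) 1008 := by decide +kernel
theorem okR820 : OKR (820 * 1008) 1008 := by decide +kernel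
theorem okR821 : OKR (821 * 1008) 1008 := by decide +kernel
theorem okR822 : OKR (822 * 1008) 1008 := by decide +kernel
theorem okR823 : OKR (823 * 1008) 1008 := by decide +kernel
theorem okR824 : OKR (824 * 1008) 1008 := by decide +kernel

end Cfsg.Agent.Helper9.SchTits
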