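import Cfsg.Agent.Helper9.SchTits.Tab

set_option autoImplicit false
set_option linter.all false
set_option maxRecDepth 1000000
set_option maxHeartbeats 0

namespace Cfsg.Agent.Helper9.SchTits

theorem okR825 : OKR (825 * 1008) 1008 := by decide +kernel
theorem okR826 : OKR (826 * 1008) 1008 := by decide +kernel
theorem okR827 : OKR (827 * 1008) 1008 := by decide +kernel
theorem okR828 : OKR (828 * 1008) 1008 := by decide +kernel
theorem okR829 : OKR (829 * 1008) 1008 := by decide +kernel
theorem okR830 : OKR (830 * 1008) 1008 := by decide +kernel
theorem okR831 : OKR (831 * 1008) 1008 := by decide +kernel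
theorem okR832 : OKR (832 * 1008) 1008 := by decide +kernel
theorem okR833 : OKR (833 * 1008) 1008 := by decide +kernel
theorem okR834 : OKR (834 * 1008) 1008 := by decide +kernel
theorem okR835 : OKR (835 * 1008) 1008 := by decide +kernel

end Cfsg.Agent.Helper9.SchTits
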