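import Cfsg.Agent.Helper9.SchTits.Tab

set_option autoImplicit false
set_option linter.all false
set_option maxRecDepth 1000000
set_option maxHeartbeats 0

namespace Cfsg.Agent.Helper9.SchTits

theorem okR836 : OKR (836 * 1008) 1008 := by decide +kernel
theorem okR837 : OKR (837 * 1008) 1008 := by decide +kernel
theorem okR838 : OKR (838 * 1008) 1008 := by decide +kernel
theorem okR839 : OKR (839 * 1008) 1008 := by decide +kernel
theorem okR840 : OKR (840 * 1008) 1008 := by decide +kernel
theorem okR841 : OKR (841 * 1008) 1008 := by decide +kernel
theorem okR842 : OKR (842 * 1008) 1008 := by decide +kernel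
theorem okR843 : OKR (843 * 1008) 1008 := by decide +kernel
theorem okR844 : OKR (844 * 1008) 1008 := by decide +kernel
theorem okR845 : OKR (845 * 1008) 1008 := by decide +kernel
theorem okR846 : OKR (846 * 1008) 1008 := by decide +kernel

end Cfsg.Agent.Helper9.SchTits
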