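import Cfsg.Agent.Helper9.SchTits.Tab

set_option autoImplicit false
set_option linter.all false
set_option maxRecDepth 1000000
set_option maxHeartbeats 0

namespace Cfsg.Agent.Helper9.SchTits

theorem okR847 : OKR (847 * 1008) 1008 := by decide +kernel
theorem okR848 : OKR (848 * 1008) 1008 := by decide +kernel
theorem okR849 : OKR (849 * 1008) 1008 := by decide +kernel
theorem okR850 : OKR (850 * 1008) 1008 := by decide +kernel
theorem okR851 : OKR (851 * 1008) 1008 := by decide +kernel
theorem okR852 : OKR (852 * 1008) 1008 := by decide +kernel
theorem okR853 : OKR (853 * 1008) 1008 := by decide +kernel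
theorem okR854 : OKR (854 * 1008) 1008 := by decide +kernel
theorem okR855 : OKR (855 * 1008) 1008 := by decide +kernel
theorem okR856 : OKR (856 * 1008) 1008 := by decide +kernel
theorem okR857 : OKR (857 * 1008) 1008 := by decide +kernel

end Cfsg.Agent.Helper9.SchTits
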