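import Cfsg.Agent.Helper9.SchTits.Tab

set_option autoImplicit false
set_option linter.all false
set_option maxRecDepth 1000000
set_option maxHeartbeats 0

namespace Cfsg.Agent.Helper9.SchTits

theorem okR858 : OKR (858 * 1008) 1008 := by decide +kernel
theorem okR859 : OKR (859 * 1008) 1008 := by decide +kernel
theorem okR860 : OKR (860 * 1008) 1008 := by decide +kernel
theorem okR861 : OKR (861 * 1008) 1008 := by decide +kernel
theorem okR862 : OKR (862 * 1008) 1008 := by decide +kernel
theorem okR863 : OKR (863 * 1008) 1008 := by decide +kernel
theorem okR864 : OKR (864 * 1008) 1008 := by decide +kernel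
theorem okR865 : OKR (865 * 1008) 1008 := by decide +kernel
theorem okR866 : OKR (866 * 1008) 1008 := by decide +kernel
theorem okR867 : OKR (867 * 1008) 1008 := by decide +kernel
theorem okR868 : OKR (868 * 1008) 1008 := by decide +kernel

end Cfsg.Agent.Helper9.SchTits
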