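import Cfsg.Agent.Helper9.SchTits.Tab

set_option autoImplicit false
set_option linter.all false
set_option maxRecDepth 1000000
set_option maxHeartbeats 0

namespace Cfsg.Agent.Helper9.SchTits

theorem okR869 : OKR (869 * 1008) 1008 := by decide +kernel
theorem okR870 : OKR (870 * 1008) 1008 := by decide +kernel
theorem okR871 : OKR (871 * 1008) 1008 := by decide +kernel
theorem okR872 : OKR (872 * 1008) 1008 := by decide +kernel
theorem okR873 : OKR (873 * 1008) 1008 := by decide +kernel
theorem okR874 : OKR (874 * 1008) 1008 := by decide +kernel
theorem okR875 : OKR (875 * 1008) 1008 := by decide +kernel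
theorem okR876 : OKR (876 * 1008) 1008 := by decide +kernel
theorem okR877 : OKR (877 * 1008) 1008 := by decide +kernel
theorem okR878 : OKR (878 * 1008) 1008 := by decide +kernel
theorem okR879 : OKR (879 * 1008) 1008 := by decide +kernel

end Cfsg.Agent.Helper9.SchTits
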