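import Cfsg.Agent.Helper9.SchTits.Tab

set_option autoImplicit false
set_option linter.all false
set_option maxRecDepth 1000000
set_option maxHeartbeats 0

namespace Cfsg.Agent.Helper9.SchTits

theorem okR880 : OKR (880 * 1008) 1008 := by decide +kernel
theorem okR881 : OKR (881 * 1008) 1008 := by decide +kernel
theorem okR882 : OKR (882 * 1008) 1008 := by decide +kernel
theorem okR883 : OKR (883 * 1008) 1008 := by decide +kernel
theorem okR884 : OKR (884 * 1008) 1008 := by decide +kernel
theorem okR885 : OKR (885 * 1008) 1008 := by decide +kernel
theorem okR886 : OKR (886 * 1008) 1008 := by decide +kernel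
theorem okR887 : OKR (887 * 1008) 1008 := by decide +kernel
theorem okR888 : OKR (888 * 1008) 1008 := by decide +kernel
theorem okR889 : OKR (889 * 1008) 1008 := by decide +kernel
theorem okR890 : OKR (890 * 1008) 1008 := by decide +kernel

end Cfsg.Agent.Helper9.SchTits
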