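import Cfsg.Agent.Helper9.SchTits.Tab

set_option autoImplicit false
set_option linter.all false
set_option maxRecDepth 1000000
set_option maxHeartbeats 0

namespace Cfsg.Agent.Helper9.SchTits

theorem okR891 : OKR (891 * 1008) 1008 := by decide +kernel
theorem okR892 : OKR (892 * 1008) 1008 := by decide +kernel
theorem okR893 : OKR (893 * 1008) 1008 := by decide +kernel
theorem okR894 : OKR (894 * 1008) 1008 := by decide +kernel
theorem okR895 : OKR (895 * 1008) 1008 := by decide +kernel
theorem okR896 : OKR (896 * 1008) 1008 := by decide +kernel
theorem okR897 : OKR (897 * 1008) 1008 := by decide +kernel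
theorem okR898 : OKR (898 * 1008) 1008 := by decide +kernel
theorem okR899 : OKR (899 * 1008) 1008 := by decide +kernel
theorem okR900 : OKR (900 * 1008) 1008 := by decide +kernel
theorem okR901 : OKR (901 * 1008) 1008 := by decide +kernel

end Cfsg.Agent.Helper9.SchTits
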