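import Cfsg.Agent.Helper9.SchTits.Tab

set_option autoImplicit false
set_option linter.all false
set_option maxRecDepth 1000000
set_option maxHeartbeats 0

namespace Cfsg.Agent.Helper9.SchTits

theorem okR902 : OKR (902 * 1008) 1008 := by decide +kernel
theorem okR903 : OKR (903 * 1008) 1008 := by decide +kernel
theorem okR904 : OKR (904 * 1008) 1008 := by decide +kernel
theorem okR905 : OKR (905 * 1008) 1008 := by decide +kernel
theorem okR906 : OKR (906 * 1008) 1008 := by decide +kernel
theorem okR907 : OKR (907 * 1008) 1008 := by decide +kernel
theorem okR908 : OKR (908 * 1008) 1008 := by decide +kernel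
theorem okR909 : OKR (909 * 1008) 1008 := by decide +kernel
theorem okR910 : OKR (910 * 1008) 1008 := by decide +kernel
theorem okR911 : OKR (911 * 1008) 1008 := by decide +kernel
theorem okR912 : OKR (912 * 1008) 1008 := by decide +kernel

end Cfsg.Agent.Helper9.SchTits
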