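import Cfsg.Agent.Helper9.SchTits.Tab

set_option autoImplicit false
set_option linter.all false
set_option maxRecDepth 1000000
set_option maxHeartbeats 0

namespace Cfsg.Agent.Helper9.SchTits

theorem okR913 : OKR (913 * 1008) 1008 := by decide +kernel
theorem okR914 : OKR (914 * 1008) 1008 := by decide +kernel
theorem okR915 : OKR (915 * 1008) 1008 := by decide +kernel
theorem okR916 : OKR (916 * 1008) 1008 := by decide +kernel
theorem okR917 : OKR (917 * 1008) 1008 := by decide +kernel
theorem okR918 : OKR (918 * 1008) 1008 := by decide +kernel
theorem okR919 : OKR (919 * 1008) 1008 := by decide +kernel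
theorem okR920 : OKR (920 * 1008) 1008 := by decide +kernel
theorem okR921 : OKR (921 * 1008) 1008 := by decide +kernel
theorem okR922 : OKR (922 * 1008) 1008 := by decide +kernel
theorem okR923 : OKR (923 * 1008) 1008 := by decide +kernel

end Cfsg.Agent.Helper9.SchTits
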