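import Cfsg.Agent.Helper9.SchTits.Tab

set_option autoImplicit false
set_option linter.all false
set_option maxRecDepth 1000000
set_option maxHeartbeats 0

namespace Cfsg.Agent.Helper9.SchTits

theorem okR924 : OKR (924 * 1008) 1008 := by decide +kernel
theorem okR925 : OKR (925 * 1008) 1008 := by decide +kernel
theorem okR926 : OKR (926 * 1008) 1008 := by decide +kernel
theorem okR927 : OKR (927 * 1008) 1008 := by decide +kernel
theorem okR928 : OKR (928 * 1008) 1008 := by decide +kernel
theorem okR929 : OKR (929 * 1008) 1008 := by decide +kernel
theorem okR930 : OKR (930 * 1008) 1008 := by decide +kernel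
theorem okR931 : OKR (931 * 1008) 1008 := by decide +kernel
theorem okR932 : OKR (932 * 1008) 1008 := by decide +kernel
theorem okR933 : OKR (933 * 1008) 1008 := by decide +kernel
theorem okR934 : OKR (934 * 1008) 1008 := by decide +kernel

end Cfsg.Agent.Helper9.SchTits
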