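import Cfsg.Agent.Helper9.SchTits.Tab

set_option autoImplicit false
set_option linter.all false
set_option maxRecDepth 1000000
set_option maxHeartbeats 0

namespace Cfsg.Agent.Helper9.SchTits

theorem okR935 : OKR (935 * 1008) 1008 := by decide +kernel
theorem okR936 : OKR (936 * 1008) 1008 := by decide +kernel
theorem okR937 : OKR (937 * 1008) 1008 := by decide +kernel
theorem okR938 : OKR (938 * 1008) 1008 := by decide +kernel
theorem okR939 : OKR (939 * 1008) 1008 := by decide +kernel
theorem okR940 : OKR (940 * 1008) 1008 := by decide +kernel
theorem okR941 : OKR (941 * 1008) 1008 := by decide +kernel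
theorem okR942 : OKR (942 * 1008) 1008 := by decide +kernel
theorem okR943 : OKR (943 * 1008) 1008 := by decide +kernel
theorem okR944 : OKR (944 * 1008) 1008 := by decide +kernel
theorem okR945 : OKR (945 * 1008) 1008 := by decide +kernel

end Cfsg.Agent.Helper9.SchTits
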