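import Cfsg.Agent.Helper9.SchTits.Tab

set_option autoImplicit false
set_option linter.all false
set_option maxRecDepth 1000000
set_option maxHeartbeats 0

namespace Cfsg.Agent.Helper9.SchTits

theorem okR946 : OKR (946 * 1008) 1008 := by decide +kernel
theorem okR947 : OKR (947 * 1008) 1008 := by decide +kernel
theorem okR948 : OKR (948 * 1008) 1008 := by decide +kernel
theorem okR949 : OKR (949 * 1008) 1008 := by decide +kernel
theorem okR950 : OKR (950 * 1008) 1008 := by decide +kernel
theorem okR951 : OKR (951 * 1008) 1008 := by decide +kernel
theorem okR952 : OKR (952 * 1008) 1008 := by decide +kernel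
theorem okR953 : OKR (953 * 1008) 1008 := by decide +kernel
theorem okR954 : OKR (954 * 1008) 1008 := by decide +kernel
theorem okR955 : OKR (955 * 1008) 1008 := by decide +kernel
theorem okR956 : OKR (956 * 1008) 1008 := by decide +kernel

end Cfsg.Agent.Helper9.SchTits
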