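import Cfsg.Agent.Helper9.SchTits.Tab

set_option autoImplicit false
set_option linter.all false
set_option maxRecDepth 1000000
set_option maxHeartbeats 0

namespace Cfsg.Agent.Helper9.SchTits

theorem okR957 : OKR (957 * 1008) 1008 := by decide +kernel
theorem okR958 : OKR (958 * 1008) 1008 := by decide +kernel
theorem okR959 : OKR (959 * 1008) 1008 := by decide +kernel
theorem okR960 : OKR (960 * 1008) 1008 := by decide +kernel
theorem okR961 : OKR (961 * 1008) 1008 := by decide +kernel
theorem okR962 : OKR (962 * 1008) 1008 := by decide +kernel
theorem okR963 : OKR (963 * 1008) 1008 := by decide +kernel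
theorem okR964 : OKR (964 * 1008) 1008 := by decide +kernel
theorem okR965 : OKR (965 * 1008) 1008 := by decide +kernel
theorem okR966 : OKR (966 * 1008) 1008 := by decide +kernel
theorem okR967 : OKR (967 * 1008) 1008 := by decide +kernel

end Cfsg.Agent.Helper9.SchTits
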