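import Cfsg.Agent.Helper9.SchTits.Tab

set_option autoImplicit false
set_option linter.all false
set_option maxRecDepth 1000000
set_option maxHeartbeats 0

namespace Cfsg.Agent.Helper9.SchTits

theorem okR968 : OKR (968 * 1008) 1008 := by decide +kernel
theorem okR969 : OKR (969 * 1008) 1008 := by decide +kernel
theorem okR970 : OKR (970 * 1008) 1008 := by decide +kernel
theorem okR971 : OKR (971 * 1008) 1008 := by decide +kernel
theorem okR972 : OKR (972 * 1008) 1008 := by decide +kernel
theorem okR973 : OKR (973 * 1008) 1008 := by decide +kernel
theorem okR974 : OKR (974 * 1008) 1008 := by decide +kernel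
theorem okR975 : OKR (975 * 1008) 1008 := by decide +kernel
theorem okR976 : OKR (976 * 1008) 1008 := by decide +kernel
theorem okR977 : OKR (977 * 1008) 1008 := by decide +kernel
theorem okR978 : OKR (978 * 1008) 1008 := by decide +kernel

end Cfsg.Agent.Helper9.SchTits
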