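import Cfsg.Agent.Helper9.SchTits.Tab

set_option autoImplicit false
set_option linter.all false
set_option maxRecDepth 1000000
set_option maxHeartbeats 0

namespace Cfsg.Agent.Helper9.SchTits

theorem okR979 : OKR (979 * 1008) 1008 := by decide +kernel
theorem okR980 : OKR (980 * 1008) 1008 := by decide +kernel
theorem okR981 : OKR (981 * 1008) 1008 := by decide +kernel
theorem okR982 : OKR (982 * 1008) 1008 := by decide +kernel
theorem okR983 : OKR (983 * 1008) 1008 := by decide +kernel
theorem okR984 : OKR (984 * 1008) 1008 := by decide +kernel
theorem okR985 : OKR (985 * 1008) 1008 := by decide +kernel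
theorem okR986 : OKR (986 * 1008) 1008 := by decide +kernel
theorem okR987 : OKR (987 * 1008) 1008 := by decide +kernel
theorem okR988 : OKR (988 * 1008) 1008 := by decide +kernel
theorem okR989 : OKR (989 * 1008) 1008 := by decide +kernel

end Cfsg.Agent.Helper9.SchTits
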