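import Cfsg.Agent.Helper9.SchTits.Tab

set_option autoImplicit false
set_option linter.all false
set_option maxRecDepth 1000000
set_option maxHeartbeats 0

namespace Cfsg.Agent.Helper9.SchTits

theorem okR99 : OKR (99 * 1008) 1008 := by decide +kernel
theorem okR100 : OKR (100 * 1008) 1008 := by decide +kernel
theorem okR101 : OKR (101 * 1008) 1008 := by decide +kernel
theorem okR102 : OKR (102 * 1008) 1008 := by decide +kernel
theorem okR103 : OKR (103 * 1008) 1008 := by decide +kernel
theorem okR104 : OKR (104 * 1008) 1008 := by decide +kernel
theorem okR105 : OKR (105 * 1008) 1008 := by decide +kernel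
theorem okR106 : OKR (106 * 1008) 1008 := by decide +kernel
theorem okR107 : OKR (107 * 1008) 1008 := by decide +kernel
theorem okR108 : OKR (108 * 1008) 1008 := by decide +kernel
theorem okR109 : OKR (109 * 1008) 1008 := by decide +kernel

end Cfsg.Agent.Helper9.SchTits
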