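import Cfsg.Agent.Helper9.SchTits.Tab

set_option autoImplicit false
set_option linter.all false
set_option maxRecDepth 1000000
set_option maxHeartbeats 0

namespace Cfsg.Agent.Helper9.SchTits

theorem okR990 : OKR (990 * 1008) 1008 := by decide +kernel
theorem okR991 : OKR (991 * 1008) 1008 := by decide +kernel
theorem okR992 : OKR (992 * 1008) 1008 := by decide +kernel
theorem okR993 : OKR (993 * 1008) 1008 := by decide +kernel
theorem okR994 : OKR (994 * 1008) 1008 := by decide +kernel
theorem okR995 : OKR (995 * 1008) 1008 := by decide +kernel
theorem okR996 : OKR (996 * 1008) 1008 := by decide +kernel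
theorem okR997 : OKR (997 * 1008) 1008 := by decide +kernel
theorem okR998 : OKR (998 * 1008) 1008 := by decide +kernel
theorem okR999 : OKR (999 * 1008) 1008 := by decide +kernel
theorem okR1000 : OKR (1000 * 1008) 1008 := by decide +kernel

end Cfsg.Agent.Helper9.SchTits
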