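import Cfsg.Agent.Helper9.SchTits.Tab

set_option autoImplicit false
set_option linter.all false
set_option maxRecDepth 1000000
set_option maxHeartbeats 0

namespace Cfsg.Agent.Helper9.SchTits

theorem okR1001 : OKR (1001 * 1008) 1008 := by decide +kernel
theorem okR1002 : OKR (1002 * 1008) 1008 := by decide +kernel
theorem okR1003 : OKR (1003 * 1008) 1008 := by decide +kernel
theorem okR1004 : OKR (1004 * 1008) 1008 := by decide +kernel
theorem okR1005 : OKR (1005 * 1008) 1008 := by decide +kernel
theorem okR1006 : OKR (1006 * 1008) 1008 := by decide +kernel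
theorem okR1007 : OKR (1007 * 1008) 1008 := by decide +kernel
theorem okR1008 : OKR (1008 * 1008) 1008 := by decide +kernel
theorem okR1009 : OKR (1009 * 1008) 1008 := by decide +kernel
theorem okR1010 : OKR (1010 * 1008) 1008 := by decide +kernel
theorem okR1011 : OKR (1011 * 1008) 1008 := by decide +kernel

end Cfsg.Agent.Helper9.SchTits
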