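import Cfsg.Agent.Helper9.SchTits.Tab

set_option autoImplicit false
set_option linter.all false
set_option maxRecDepth 1000000
set_option maxHeartbeats 0

namespace Cfsg.Agent.Helper9.SchTits

theorem okR1012 : OKR (1012 * 1008) 1008 := by decide +kernel
theorem okR1013 : OKR (1013 * 1008) 1008 := by decide +kernel
theorem okR1014 : OKR (1014 * 1008) 1008 := by decide +kernel
theorem okR1015 : OKR (1015 * 1008) 1008 := by decide +kernel
theorem okR1016 : OKR (1016 * 1008) 1008 := by decide +kernel
theorem okR1017 : OKR (1017 * 1008) 1008 := by decide +kernel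
theorem okR1018 : OKR (1018 * 1008) 1008 := by decide +kernel
theorem okR1019 : OKR (1019 * 1008) 1008 := by decide +kernel
theorem okR1020 : OKR (1020 * 1008) 1008 := by decide +kernel
theorem okR1021 : OKR (1021 * 1008) 1008 := by decide +kernel
theorem okR1022 : OKR (1022 * 1008) 1008 := by decide +kernel

end Cfsg.Agent.Helper9.SchTits
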