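import Cfsg.Agent.Helper9.SchTits.Tab

set_option autoImplicit false
set_option linter.all false
set_option maxRecDepth 1000000
set_option maxHeartbeats 0

namespace Cfsg.Agent.Helper9.SchTits

theorem okR1023 : OKR (1023 * 1008) 1008 := by decide +kernel
theorem okR1024 : OKR (1024 * 1008) 1008 := by decide +kernel
theorem okR1025 : OKR (1025 * 1008) 1008 := by decide +kernel
theorem okR1026 : OKR (1026 * 1008) 1008 := by decide +kernel
theorem okR1027 : OKR (1027 * 1008) 1008 := by decide +kernel
theorem okR1028 : OKR (1028 * 1008) 1008 := by decide +kernel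
theorem okR1029 : OKR (1029 * 1008) 1008 := by decide +kernel
theorem okR1030 : OKR (1030 * 1008) 1008 := by decide +kernel
theorem okR1031 : OKR (1031 * 1008) 1008 := by decide +kernel
theorem okR1032 : OKR (1032 * 1008) 1008 := by decide +kernel
theorem okR1033 : OKR (1033 * 1008) 1008 := by decide +kernel

end Cfsg.Agent.Helper9.SchTits
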