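import Cfsg.Agent.Helper9.SchTits.Tab

set_option autoImplicit false
set_option linter.all false
set_option maxRecDepth 1000000
set_option maxHeartbeats 0

namespace Cfsg.Agent.Helper9.SchTits

theorem okR1034 : OKR (1034 * 1008) 1008 := by decide +kernel
theorem okR1035 : OKR (1035 * 1008) 1008 := by decide +kernel
theorem okR1036 : OKR (1036 * 1008) 1008 := by decide +kernel
theorem okR1037 : OKR (1037 * 1008) 1008 := by decide +kernel
theorem okR1038 : OKR (1038 * 1008) 1008 := by decide +kernel
theorem okR1039 : OKR (1039 * 1008) 1008 := by decide +kernel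
theorem okR1040 : OKR (1040 * 1008) 1008 := by decide +kernel
theorem okR1041 : OKR (1041 * 1008) 1008 := by decide +kernel
theorem okR1042 : OKR (1042 * 1008) 1008 := by decide +kernel
theorem okR1043 : OKR (1043 * 1008) 1008 := by decide +kernel
theorem okR1044 : OKR (1044 * 1008) 1008 := by decide +kernel

end Cfsg.Agent.Helper9.SchTits
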