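import Cfsg.Agent.Helper9.SchTits.Tab

set_option autoImplicit false
set_option linter.all false
set_option maxRecDepth 1000000
set_option maxHeartbeats 0

namespace Cfsg.Agent.Helper9.SchTits

theorem okR1045 : OKR (1045 * 1008) 1008 := by decide +kernel
theorem okR1046 : OKR (1046 * 1008) 1008 := by decide +kernel
theorem okR1047 : OKR (1047 * 1008) 1008 := by decide +kernel
theorem okR1048 : OKR (1048 * 1008) 1008 := by decide +kernel
theorem okR1049 : OKR (1049 * 1008) 1008 := by decide +kernel
theorem okR1050 : OKR (1050 * 1008) 1008 := by decide +kernel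
theorem okR1051 : OKR (1051 * 1008) 1008 := by decide +kernel
theorem okR1052 : OKR (1052 * 1008) 1008 := by decide +kernel
theorem okR1053 : OKR (1053 * 1008) 1008 := by decide +kernel
theorem okR1054 : OKR (1054 * 1008) 1008 := by decide +kernel
theorem okR1055 : OKR (1055 * 1008) 1008 := by decide +kernel

end Cfsg.Agent.Helper9.SchTits
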