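import Cfsg.Agent.Helper9.SchTits.Tab

set_option autoImplicit false
set_option linter.all false
set_option maxRecDepth 1000000
set_option maxHeartbeats 0

namespace Cfsg.Agent.Helper9.SchTits

theorem okR1056 : OKR (1056 * 1008) 1008 := by decide +kernel
theorem okR1057 : OKR (1057 * 1008) 1008 := by decide +kernel
theorem okR1058 : OKR (1058 * 1008) 1008 := by decide +kernel
theorem okR1059 : OKR (1059 * 1008) 1008 := by decide +kernel
theorem okR1060 : OKR (1060 * 1008) 1008 := by decide +kernel
theorem okR1061 : OKR (1061 * 1008) 1008 := by decide +kernel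
theorem okR1062 : OKR (1062 * 1008) 1008 := by decide +kernel
theorem okR1063 : OKR (1063 * 1008) 1008 := by decide +kernel
theorem okR1064 : OKR (1064 * 1008) 1008 := by decide +kernel
theorem okR1065 : OKR (1065 * 1008) 1008 := by decide +kernel
theorem okR1066 : OKR (1066 * 1008) 1008 := by decide +kernel

end Cfsg.Agent.Helper9.SchTits
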