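import Cfsg.Agent.Helper9.SchTits.Tab

set_option autoImplicit false
set_option linter.all false
set_option maxRecDepth 1000000
set_option maxHeartbeats 0

namespace Cfsg.Agent.Helper9.SchTits

theorem okR1067 : OKR (1067 * 1008) 1008 := by decide +kernel
theorem okR1068 : OKR (1068 * 1008) 1008 := by decide +kernel
theorem okR1069 : OKR (1069 * 1008) 1008 := by decide +kernel
theorem okR1070 : OKR (1070 * 1008) 1008 := by decide +kernel
theorem okR1071 : OKR (1071 * 1008) 1008 := by decide +kernel
theorem okR1072 : OKR (1072 * 1008) 1008 := by decide +kernel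
theorem okR1073 : OKR (1073 * 1008) 1008 := by decide +kernel
theorem okR1074 : OKR (1074 * 1008) 1008 := by decide +kernel
theorem okR1075 : OKR (1075 * 1008) 1008 := by decide +kernel
theorem okR1076 : OKR (1076 * 1008) 1008 := by decide +kernel
theorem okR1077 : OKR (1077 * 1008) 1008 := by decide +kernel

end Cfsg.Agent.Helper9.SchTits
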