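import Cfsg.Agent.Helper9.SchTits.Tab

set_option autoImplicit false
set_option linter.all false
set_option maxRecDepth 1000000
set_option maxHeartbeats 0

namespace Cfsg.Agent.Helper9.SchTits

theorem okR1078 : OKR (1078 * 1008) 1008 := by decide +kernel
theorem okR1079 : OKR (1079 * 1008) 1008 := by decide +kernel
theorem okR1080 : OKR (1080 * 1008) 1008 := by decide +kernel
theorem okR1081 : OKR (1081 * 1008) 1008 := by decide +kernel
theorem okR1082 : OKR (1082 * 1008) 1008 := by decide +kernel
theorem okR1083 : OKR (1083 * 1008) 1008 := by decide +kernel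
theorem okR1084 : OKR (1084 * 1008) 1008 := by decide +kernel
theorem okR1085 : OKR (1085 * 1008) 1008 := by decide +kernel
theorem okR1086 : OKR (1086 * 1008) 1008 := by decide +kernel
theorem okR1087 : OKR (1087 * 1008) 1008 := by decide +kernel
theorem okR1088 : OKR (1088 * 1008) 1008 := by decide +kernel

end Cfsg.Agent.Helper9.SchTits
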