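import Cfsg.Agent.Helper9.SchTits.Tab

set_option autoImplicit false
set_option linter.all false
set_option maxRecDepth 1000000
set_option maxHeartbeats 0

namespace Cfsg.Agent.Helper9.SchTits

theorem okR1089 : OKR (1089 * 1008) 1008 := by decide +kernel
theorem okR1090 : OKR (1090 * 1008) 1008 := by decide +kernel
theorem okR1091 : OKR (1091 * 1008) 1008 := by decide +kernel
theorem okR1092 : OKR (1092 * 1008) 1008 := by decide +kernel
theorem okR1093 : OKR (1093 * 1008) 1008 := by decide +kernel
theorem okR1094 : OKR (1094 * 1008) 1008 := by decide +kernel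
theorem okR1095 : OKR (1095 * 1008) 1008 := by decide +kernel
theorem okR1096 : OKR (1096 * 1008) 1008 := by decide +kernel
theorem okR1097 : OKR (1097 * 1008) 1008 := by decide +kernel
theorem okR1098 : OKR (1098 * 1008) 1008 := by decide +kernel
theorem okR1099 : OKR (1099 * 1008) 1008 := by decide +kernel

end Cfsg.Agent.Helper9.SchTits
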