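import Cfsg.Agent.Helper9.SchTits.Tab

set_option autoImplicit false
set_option linter.all false
set_option maxRecDepth 1000000
set_option maxHeartbeats 0

namespace Cfsg.Agent.Helper9.SchTits

theorem okT0 : OKT (0 * 20000) 20000 := by decide +kernel
theorem okT1 : OKT (1 * 20000) 20000 := by decide +kernel
theorem okT2 : OKT (2 * 20000) 20000 := by decide +kernel
theorem okT3 : OKT (3 * 20000) 20000 := by decide +kernel
theorem okT4 : OKT (4 * 20000) 20000 := by decide +kernel
theorem okT5 : OKT (5 * 20000) 20000 := by decide +kernel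
theorem okT6 : OKT (6 * 20000) 20000 := by decide +kernel
theorem okT7 : OKT (7 * 20000) 20000 := by decide +kernel
theorem okT8 : OKT (8 * 20000) 20000 := by decide +kernel
theorem okT9 : OKT (9 * 20000) 20000 := by decide +kernel
theorem okT10 : OKT (10 * 20000) 20000 := by decide +kernel
theorem okT11 : OKT (11 * 20000) 20000 := by decide +kernel
theorem okT12 : OKT (12 * 20000) 20000 := by decide +kernel
theorem okT13 : OKT (13 * 20000) 20000 := by decide +kernel
theorem okT14 : OKT (14 * 20000) 20000 := by decide +kernel
theorem okT15 : OKT (15 * 20000) 20000 := by decide +kernel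
theorem okT16 : OKT (16 * 20000) 20000 := by decide +kernel
theorem okT17 : OKT (17 * 20000) 20000 := by decide +kernel
theorem okT18 : OKT (18 * 20000) 20000 := by decide +kernel
theorem okT19 : OKT (19 * 20000) 20000 := by decide +kernel
theorem okT20 : OKT (20 * 20000) 20000 := by decide +kernel
theorem okT21 : OKT (21 * 20000) 20000 := by decide +kernel
theorem okT22 : OKT (22 * 20000) 20000 := by decide +kernel
theorem okT23 : OKT (23 * 20000) 20000 := by decide +kernel
theorem okT24 : OKT (24 * 20000) 20000 := by decide +kernel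
theorem okT25 : OKT (25 * 20000) 20000 := by decide +kernel
theorem okT26 : OKT (26 * 20000) 20000 := by decide +kernel
theorem okT27 : OKT (27 * 20000) 20000 := by decide +kernel
theorem okT28 : OKT (28 * 20000) 20000 := by decide +kernel
theorem okT29 : OKT (29 * 20000) 20000 := by decide +kernel
theorem okT30 : OKT (30 * 20000) 20000 := by decide +kernel
theorem okT31 : OKT (31 * 20000) 20000 := by decide +kernel
theorem okT32 : OKT (32 * 20000) 20000 := by decide +kernel
theorem okT33 : OKT (33 * 20000) 20000 := by decide +kernel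
theorem okT34 : OKT (34 * 20000) 20000 := by decide +kernel
theorem okT35 : OKT (35 * 20000) 20000 := by decide +kernel
theorem okT36 : OKT (36 * 20000) 20000 := by decide +kernel
theorem okT37 : OKT (37 * 20000) 20000 := by decide +kernel
theorem okT38 : OKT (38 * 20000) 20000 := by decide +kernel
theorem okT39 : OKT (39 * 20000) 20000 := by decide +kernel
theorem okT40 : OKT (40 * 20000) 20000 := by decide +kernel
theorem okT41 : OKT (41 * 20000) 20000 := by decide +kernel
theorem okT42 : OKT (42 * 20000) 20000 := by decide +kernel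
theorem okT43 : OKT (43 * 20000) 20000 := by decide +kernel
theorem okT44 : OKT (44 * 20000) 20000 := by decide +kernel
theorem okT45 : OKT (45 * 20000) 20000 := by decide +kernel
theorem okT46 : OKT (46 * 20000) 20000 := by decide +kernel
theorem okT47 : OKT (47 * 20000) 20000 := by decide +kernel
theorem okT48 : OKT (48 * 20000) 20000 := by decide +kernel
theorem okT49 : OKT (49 * 20000) 20000 := by decide +kernel
theorem okT50 : OKT (50 * 20000) 20000 := by decide +kernel
theorem okT51 : OKT (51 * 20000) 20000 := by decide +kernel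
theorem okT52 : OKT (52 * 20000) 20000 := by decide +kernel
theorem okT53 : OKT (53 * 20000) 20000 := by decide +kernel
theorem okT54 : OKT (54 * 20000) 20000 := by decide +kernel
theorem okT55 : OKT (55 * 20000) 20000 := by decide +kernel
theorem okT56 : OKT (56 * 20000) 20000 := by decide +kernel
theorem okF0 : OKF [2, 2] 4 3213876136408466916766807995205017477892577304223787952635904 := by decide +kernel
theorem okF1 : OKF [2, 2] 27979 3213876136408284229062141632380806836495791127708623973122048 := by decide +kernel
theorem okF2 : OKF [2, 2] 11127 3213876136408101541362919787325919162496160561267434636967936 := by decide +kernel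
theorem okF3 : OKF [0, 0, 0, 0, 2, 1, 1, 1, 1, 2, 0, 2, 0, 2, 0, 2, 0, 2, 1, 2, 1, 2, 1, 2, 1, 2] 137340 41780365253381690095306492007041087362820096325550624209371136 := by decide +kernel
theorem okF4 : OKF [0, 0, 0, 0, 0, 0, 0, 0, 0, 0, 0, 0, 0, 0, 0, 0] 0 25711009091267735334134463961477880546311405142456319648727056 := by decide +kernel
theorem okF5 : OKF [0, 0, 2, 1, 2, 0, 2, 1, 2, 0, 2, 1, 2, 1, 2, 0, 2, 1, 2, 0, 2, 1, 2] 451570 36959563308733590678815979648632674678359217002942545247600640 := by decide +kernel
theorem okF6 : OKF [0, 0, 2, 1, 2, 0, 2, 1, 2, 0, 2, 1, 2, 1, 2, 0, 2, 1, 2, 0, 2, 1, 2] 58921 36959575568697369542825097591942589640152557458065129448669184 := by decide +kernel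
theorem okF7 : OKF [0, 0, 0, 0, 2, 1, 1, 1, 1, 2, 0, 2, 0, 2, 0, 2, 0, 2, 1, 2, 1, 2, 1, 2, 1, 2] 200321 41780402033274579532785398296510232299549510633871105136787456 := by decide +kernel
theorem okF8 : OKF [0, 0, 2, 1, 2, 0, 2, 1, 2, 0, 2, 1, 2, 1, 2, 0, 2, 1, 2, 0, 2, 1, 2] 255062 36959600088623831144596279489252124864762398686501079921459200 := by decide +kernel
theorem okF9 : OKF [0, 0, 0, 0, 2, 1, 1, 1, 1, 2, 0, 2, 0, 2, 0, 2, 0, 2, 1, 2, 1, 2, 1, 2, 1, 2] 46472 41780512372952334406706952127075373790689109949590820874616832 := by decide +kernel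

end Cfsg.Agent.Helper9.SchTits
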