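import Mathlib
import Cfsg.Agent.Helper19.TCR.Lab
import Cfsg.Agent.Helper9.SchTits.Chk0
import Cfsg.Agent.Helper9.SchTits.Chk1
import Cfsg.Agent.Helper9.SchTits.Chk2
import Cfsg.Agent.Helper9.SchTits.Chk3
import Cfsg.Agent.Helper9.SchTits.Chk4
import Cfsg.Agent.Helper9.SchTits.Chk5
import Cfsg.Agent.Helper9.SchTits.Chk6
import Cfsg.Agent.Helper9.SchTits.Chk7
import Cfsg.Agent.Helper9.SchTits.Chk8
import Cfsg.Agent.Helper9.SchTits.Chk9
import Cfsg.Agent.Helper9.SchTits.Chk10
import Cfsg.Agent.Helper9.SchTits.Chk11
import Cfsg.Agent.Helper9.SchTits.Chk12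
import Cfsg.Agent.Helper9.SchTits.Chk13
import Cfsg.Agent.Helper9.SchTits.Chk14
import Cfsg.Agent.Helper9.SchTits.Chk15
import Cfsg.Agent.Helper9.SchTits.Chk16
import Cfsg.Agent.Helper9.SchTits.Chk17
import Cfsg.Agent.Helper9.SchTits.Chk18
import Cfsg.Agent.Helper9.SchTits.Chk19
import Cfsg.Agent.Helper9.SchTits.Chk20
import Cfsg.Agent.Helper9.SchTits.Chk21
import Cfsg.Agent.Helper9.SchTits.Chk22
import Cfsg.Agent.Helper9.SchTits.Chk23
import Cfsg.Agent.Helper9.SchTits.Chk24
import Cfsg.Agent.Helper9.SchTits.Chk25
import Cfsg.Agent.Helper9.SchTits.Chk26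
import Cfsg.Agent.Helper9.SchTits.Chk27
import Cfsg.Agent.Helper9.SchTits.Chk28
import Cfsg.Agent.Helper9.SchTits.Chk29
import Cfsg.Agent.Helper9.SchTits.Chk30
import Cfsg.Agent.Helper9.SchTits.Chk31
import Cfsg.Agent.Helper9.SchTits.Chk32
import Cfsg.Agent.Helper9.SchTits.Chk33
import Cfsg.Agent.Helper9.SchTits.Chk34
import Cfsg.Agent.Helper9.SchTits.Chk35
import Cfsg.Agent.Helper9.SchTits.Chk36
import Cfsg.Agent.Helper9.SchTits.Chk37
import Cfsg.Agent.Helper9.SchTits.Chk38
import Cfsg.Agent.Helper9.SchTits.Chk39
import Cfsg.Agent.Helper9.SchTits.Chk40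
import Cfsg.Agent.Helper9.SchTits.Chk41
import Cfsg.Agent.Helper9.SchTits.Chk42
import Cfsg.Agent.Helper9.SchTits.Chk43
import Cfsg.Agent.Helper9.SchTits.Chk44
import Cfsg.Agent.Helper9.SchTits.Chk45
import Cfsg.Agent.Helper9.SchTits.Chk46
import Cfsg.Agent.Helper9.SchTits.Chk47
import Cfsg.Agent.Helper9.SchTits.Chk48
import Cfsg.Agent.Helper9.SchTits.Chk49
import Cfsg.Agent.Helper9.SchTits.Chk50
import Cfsg.Agent.Helper9.SchTits.Chk51
import Cfsg.Agent.Helper9.SchTits.Chk52
import Cfsg.Agent.Helper9.SchTits.Chk53
import Cfsg.Agent.Helper9.SchTits.Chk54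
import Cfsg.Agent.Helper9.SchTits.Chk55
import Cfsg.Agent.Helper9.SchTits.Chk56
import Cfsg.Agent.Helper9.SchTits.Chk57
import Cfsg.Agent.Helper9.SchTits.Chk58
import Cfsg.Agent.Helper9.SchTits.Chk59
import Cfsg.Agent.Helper9.SchTits.Chk60
import Cfsg.Agent.Helper9.SchTits.Chk61
import Cfsg.Agent.Helper9.SchTits.Chk62
import Cfsg.Agent.Helper9.SchTits.Chk63
import Cfsg.Agent.Helper9.SchTits.Chk64
import Cfsg.Agent.Helper9.SchTits.Chk65
import Cfsg.Agent.Helper9.SchTits.Chk66
import Cfsg.Agent.Helper9.SchTits.Chk67
import Cfsg.Agent.Helper9.SchTits.Chk68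
import Cfsg.Agent.Helper9.SchTits.Chk69
import Cfsg.Agent.Helper9.SchTits.Chk70
import Cfsg.Agent.Helper9.SchTits.Chk71
import Cfsg.Agent.Helper9.SchTits.Chk72
import Cfsg.Agent.Helper9.SchTits.Chk73
import Cfsg.Agent.Helper9.SchTits.Chk74
import Cfsg.Agent.Helper9.SchTits.Chk75
import Cfsg.Agent.Helper9.SchTits.Chk76
import Cfsg.Agent.Helper9.SchTits.Chk77
import Cfsg.Agent.Helper9.SchTits.Chk78
import Cfsg.Agent.Helper9.SchTits.Chk79
import Cfsg.Agent.Helper9.SchTits.Chk80
import Cfsg.Agent.Helper9.SchTits.Chk81
import Cfsg.Agent.Helper9.SchTits.Chk82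
import Cfsg.Agent.Helper9.SchTits.Chk83
import Cfsg.Agent.Helper9.SchTits.Chk84
import Cfsg.Agent.Helper9.SchTits.Chk85
import Cfsg.Agent.Helper9.SchTits.Chk86
import Cfsg.Agent.Helper9.SchTits.Chk87
import Cfsg.Agent.Helper9.SchTits.Chk88
import Cfsg.Agent.Helper9.SchTits.Chk89
import Cfsg.Agent.Helper9.SchTits.Chk90
import Cfsg.Agent.Helper9.SchTits.Chk91
import Cfsg.Agent.Helper9.SchTits.Chk92
import Cfsg.Agent.Helper9.SchTits.Chk93
import Cfsg.Agent.Helper9.SchTits.Chk94
import Cfsg.Agent.Helper9.SchTits.Chk95
import Cfsg.Agent.Helper9.SchTits.Chk96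
import Cfsg.Agent.Helper9.SchTits.Chk97
import Cfsg.Agent.Helper9.SchTits.Chk98
import Cfsg.Agent.Helper9.SchTits.Chk99
import Cfsg.Agent.Helper9.SchTits.Chk100
import Cfsg.Agent.Helper9.SchTits.Chk101
import Cfsg.Agent.Helper9.SchTits.ChkT

set_option autoImplicit false
set_option linter.all false
set_option maxRecDepth 1000000
set_option maxHeartbeats 0

namespace Cfsg.Agent.Helper9.SchTits

open Cfsg.Agent.Helper19.TCS Cfsg.Agent.Helper19.TCL

theorem okR_all : ∀ p, p < 1115 → OKR (p * 1008) 1008 := by
  intro p hp
  interval_cases p
  · exact okR0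
  · exact okR1
  · exact okR2
  · exact okR3
  · exact okR4
  · exact okR5
  · exact okR6
  · exact okR7
  · exact okR8
  · exact okR9
  · exact okR10
  · exact okR11
  · exact okR12
  · exact okR13
  · exact okR14
  · exact okR15
  · exact okR16
  · exact okR17
  · exact okR18
  · exact okR19
  · exact okR20
  · exact okR21
  · exact okR22
  · exact okR23
  · exact okR24
  · exact okR25
  · exact okR26
  · exact okR27
  · exact okR28
  · exact okR29
  · exact okR30
  · exact okR31
  · exact okR32
  · exact okR33
  · exact okR34
  · exact okR35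
  · exact okR36
  · exact okR37
  · exact okR38
  · exact okR39
  · exact okR40
  · exact okR41
  · exact okR42
  · exact okR43
  · exact okR44
  · exact okR45
  · exact okR46
  · exact okR47
  · exact okR48
  · exact okR49
  · exact okR50
  · exact okR51
  · exact okR52
  · exact okR53
  · exact okR54
  · exact okR55
  · exact okR56
  · exact okR57
  · exact okR58
  · exact okR59
  · exact okR60
  · exact okR61
  · exact okR62
  · exact okR63
  · exact okR64
  · exact okR65
  · exact okR66
  · exact okR67
  · exact okR68
  · exact okR69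
  · exact okR70
  · exact okR71
  · exact okR72
  · exact okR73
  · exact okR74
  · exact okR75
  · exact okR76
  · exact okR77
  · exact okR78
  · exact okR79
  · exact okR80
  · exact okR81
  · exact okR82
  · exact okR83
  · exact okR84
  · exact okR85
  · exact okR86
  · exact okR87
  · exact okR88
  · exact okR89
  · exact okR90
  · exact okR91
  · exact okR92
  · exact okR93
  · exact okR94
  · exact okR95
  · exact okR96
  · exact okR97
  · exact okR98
  · exact okR99
  · exact okR100
  · exact okR101
  · exact okR102
  · exact okR103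
  · exact okR104
  · exact okR105
  · exact okR106
  · exact okR107
  · exact okR108
  · exact okR109
  · exact okR110
  · exact okR111
  · exact okR112
  · exact okR113
  · exact okR114
  · exact okR115
  · exact okR116
  · exact okR117
  · exact okR118
  · exact okR119
  · exact okR120
  · exact okR121
  · exact okR122
  · exact okR123
  · exact okR124
  · exact okR125
  · exact okR126
  · exact okR127
  · exact okR128
  · exact okR129
  · exact okR130
  · exact okR131
  · exact okR132
  · exact okR133
  · exact okR134
  · exact okR135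
  · exact okR136
  · exact okR137
  · exact okR138
  · exact okR139
  · exact okR140
  · exact okR141
  · exact okR142
  · exact okR143
  · exact okR144
  · exact okR145
  · exact okR146
  · exact okR147
  · exact okR148
  · exact okR149
  · exact okR150
  · exact okR151
  · exact okR152
  · exact okR153
  · exact okR154
  · exact okR155
  · exact okR156
  · exact okR157
  · exact okR158
  · exact okR159
  · exact okR160
  · exact okR161
  · exact okR162
  · exact okR163
  · exact okR164
  · exact okR165
  · exact okR166
  · exact okR167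
  · exact okR168
  · exact okR169
  · exact okR170
  · exact okR171
  · exact okR172
  · exact okR173
  · exact okR174
  · exact okR175
  · exact okR176
  · exact okR177
  · exact okR178
  · exact okR179
  · exact okR180
  · exact okR181
  · exact okR182
  · exact okR183
  · exact okR184
  · exact okR185
  · exact okR186
  · exact okR187
  · exact okR188
  · exact okR189
  · exact okR190
  · exact okR191
  · exact okR192
  · exact okR193
  · exact okR194
  · exact okR195
  · exact okR196
  · exact okR197
  · exact okR198
  · exact okR199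
  · exact okR200
  · exact okR201
  · exact okR202
  · exact okR203
  · exact okR204
  · exact okR205
  · exact okR206
  · exact okR207
  · exact okR208
  · exact okR209
  · exact okR210
  · exact okR211
  · exact okR212
  · exact okR213
  · exact okR214
  · exact okR215
  · exact okR216
  · exact okR217
  · exact okR218
  · exact okR219
  · exact okR220
  · exact okR221
  · exact okR222
  · exact okR223
  · exact okR224
  · exact okR225
  · exact okR226
  · exact okR227
  · exact okR228
  · exact okR229
  · exact okR230
  · exact okR231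
  · exact okR232
  · exact okR233
  · exact okR234
  · exact okR235
  · exact okR236
  · exact okR237
  · exact okR238
  · exact okR239
  · exact okR240
  · exact okR241
  · exact okR242
  · exact okR243
  · exact okR244
  · exact okR245
  · exact okR246
  · exact okR247
  · exact okR248
  · exact okR249
  · exact okR250
  · exact okR251
  · exact okR252
  · exact okR253
  · exact okR254
  · exact okR255
  · exact okR256
  · exact okR257
  · exact okR258
  · exact okR259
  · exact okR260
  · exact okR261
  · exact okR262
  · exact okR263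
  · exact okR264
  · exact okR265
  · exact okR266
  · exact okR267
  · exact okR268
  · exact okR269
  · exact okR270
  · exact okR271
  · exact okR272
  · exact okR273
  · exact okR274
  · exact okR275
  · exact okR276
  · exact okR277
  · exact okR278
  · exact okR279
  · exact okR280
  · exact okR281
  · exact okR282
  · exact okR283
  · exact okR284
  · exact okR285
  · exact okR286
  · exact okR287
  · exact okR288
  · exact okR289
  · exact okR290
  · exact okR291
  · exact okR292
  · exact okR293
  · exact okR294
  · exact okR295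
  · exact okR296
  · exact okR297
  · exact okR298
  · exact okR299
  · exact okR300
  · exact okR301
  · exact okR302
  · exact okR303
  · exact okR304
  · exact okR305
  · exact okR306
  · exact okR307
  · exact okR308
  · exact okR309
  · exact okR310
  · exact okR311
  · exact okR312
  · exact okR313
  · exact okR314
  · exact okR315
  · exact okR316
  · exact okR317
  · exact okR318
  · exact okR319
  · exact okR320
  · exact okR321
  · exact okR322
  · exact okR323
  · exact okR324
  · exact okR325
  · exact okR326
  · exact okR327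
  · exact okR328
  · exact okR329
  · exact okR330
  · exact okR331
  · exact okR332
  · exact okR333
  · exact okR334
  · exact okR335
  · exact okR336
  · exact okR337
  · exact okR338
  · exact okR339
  · exact okR340
  · exact okR341
  · exact okR342
  · exact okR343
  · exact okR344
  · exact okR345
  · exact okR346
  · exact okR347
  · exact okR348
  · exact okR349
  · exact okR350
  · exact okR351
  · exact okR352
  · exact okR353
  · exact okR354
  · exact okR355
  · exact okR356
  · exact okR357
  · exact okR358
  · exact okR359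
  · exact okR360
  · exact okR361
  · exact okR362
  · exact okR363
  · exact okR364
  · exact okR365
  · exact okR366
  · exact okR367
  · exact okR368
  · exact okR369
  · exact okR370
  · exact okR371
  · exact okR372
  · exact okR373
  · exact okR374
  · exact okR375
  · exact okR376
  · exact okR377
  · exact okR378
  · exact okR379
  · exact okR380
  · exact okR381
  · exact okR382
  · exact okR383
  · exact okR384
  · exact okR385
  · exact okR386
  · exact okR387
  · exact okR388
  · exact okR389
  · exact okR390
  · exact okR391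
  · exact okR392
  · exact okR393
  · exact okR394
  · exact okR395
  · exact okR396
  · exact okR397
  · exact okR398
  · exact okR399
  · exact okR400
  · exact okR401
  · exact okR402
  · exact okR403
  · exact okR404
  · exact okR405
  · exact okR406
  · exact okR407
  · exact okR408
  · exact okR409
  · exact okR410
  · exact okR411
  · exact okR412
  · exact okR413
  · exact okR414
  · exact okR415
  · exact okR416
  · exact okR417
  · exact okR418
  · exact okR419
  · exact okR420
  · exact okR421
  · exact okR422
  · exact okR423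
  · exact okR424
  · exact okR425
  · exact okR426
  · exact okR427
  · exact okR428
  · exact okR429
  · exact okR430
  · exact okR431
  · exact okR432
  · exact okR433
  · exact okR434
  · exact okR435
  · exact okR436
  · exact okR437
  · exact okR438
  · exact okR439
  · exact okR440
  · exact okR441
  · exact okR442
  · exact okR443
  · exact okR444
  · exact okR445
  · exact okR446
  · exact okR447
  · exact okR448
  · exact okR449
  · exact okR450
  · exact okR451
  · exact okR452
  · exact okR453
  · exact okR454
  · exact okR455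
  · exact okR456
  · exact okR457
  · exact okR458
  · exact okR459
  · exact okR460
  · exact okR461
  · exact okR462
  · exact okR463
  · exact okR464
  · exact okR465
  · exact okR466
  · exact okR467
  · exact okR468
  · exact okR469
  · exact okR470
  · exact okR471
  · exact okR472
  · exact okR473
  · exact okR474
  · exact okR475
  · exact okR476
  · exact okR477
  · exact okR478
  · exact okR479
  · exact okR480
  · exact okR481
  · exact okR482
  · exact okR483
  · exact okR484
  · exact okR485
  · exact okR486
  · exact okR487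
  · exact okR488
  · exact okR489
  · exact okR490
  · exact okR491
  · exact okR492
  · exact okR493
  · exact okR494
  · exact okR495
  · exact okR496
  · exact okR497
  · exact okR498
  · exact okR499
  · exact okR500
  · exact okR501
  · exact okR502
  · exact okR503
  · exact okR504
  · exact okR505
  · exact okR506
  · exact okR507
  · exact okR508
  · exact okR509
  · exact okR510
  · exact okR511
  · exact okR512
  · exact okR513
  · exact okR514
  · exact okR515
  · exact okR516
  · exact okR517
  · exact okR518
  · exact okR519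
  · exact okR520
  · exact okR521
  · exact okR522
  · exact okR523
  · exact okR524
  · exact okR525
  · exact okR526
  · exact okR527
  · exact okR528
  · exact okR529
  · exact okR530
  · exact okR531
  · exact okR532
  · exact okR533
  · exact okR534
  · exact okR535
  · exact okR536
  · exact okR537
  · exact okR538
  · exact okR539
  · exact okR540
  · exact okR541
  · exact okR542
  · exact okR543
  · exact okR544
  · exact okR545
  · exact okR546
  · exact okR547
  · exact okR548
  · exact okR549
  · exact okR550
  · exact okR551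
  · exact okR552
  · exact okR553
  · exact okR554
  · exact okR555
  · exact okR556
  · exact okR557
  · exact okR558
  · exact okR559
  · exact okR560
  · exact okR561
  · exact okR562
  · exact okR563
  · exact okR564
  · exact okR565
  · exact okR566
  · exact okR567
  · exact okR568
  · exact okR569
  · exact okR570
  · exact okR571
  · exact okR572
  · exact okR573
  · exact okR574
  · exact okR575
  · exact okR576
  · exact okR577
  · exact okR578
  · exact okR579
  · exact okR580
  · exact okR581
  · exact okR582
  · exact okR583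
  · exact okR584
  · exact okR585
  · exact okR586
  · exact okR587
  · exact okR588
  · exact okR589
  · exact okR590
  · exact okR591
  · exact okR592
  · exact okR593
  · exact okR594
  · exact okR595
  · exact okR596
  · exact okR597
  · exact okR598
  · exact okR599
  · exact okR600
  · exact okR601
  · exact okR602
  · exact okR603
  · exact okR604
  · exact okR605
  · exact okR606
  · exact okR607
  · exact okR608
  · exact okR609
  · exact okR610
  · exact okR611
  · exact okR612
  · exact okR613
  · exact okR614
  · exact okR615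
  · exact okR616
  · exact okR617
  · exact okR618
  · exact okR619
  · exact okR620
  · exact okR621
  · exact okR622
  · exact okR623
  · exact okR624
  · exact okR625
  · exact okR626
  · exact okR627
  · exact okR628
  · exact okR629
  · exact okR630
  · exact okR631
  · exact okR632
  · exact okR633
  · exact okR634
  · exact okR635
  · exact okR636
  · exact okR637
  · exact okR638
  · exact okR639
  · exact okR640
  · exact okR641
  · exact okR642
  · exact okR643
  · exact okR644
  · exact okR645
  · exact okR646
  · exact okR647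
  · exact okR648
  · exact okR649
  · exact okR650
  · exact okR651
  · exact okR652
  · exact okR653
  · exact okR654
  · exact okR655
  · exact okR656
  · exact okR657
  · exact okR658
  · exact okR659
  · exact okR660
  · exact okR661
  · exact okR662
  · exact okR663
  · exact okR664
  · exact okR665
  · exact okR666
  · exact okR667
  · exact okR668
  · exact okR669
  · exact okR670
  · exact okR671
  · exact okR672
  · exact okR673
  · exact okR674
  · exact okR675
  · exact okR676
  · exact okR677
  · exact okR678
  · exact okR679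
  · exact okR680
  · exact okR681
  · exact okR682
  · exact okR683
  · exact okR684
  · exact okR685
  · exact okR686
  · exact okR687
  · exact okR688
  · exact okR689
  · exact okR690
  · exact okR691
  · exact okR692
  · exact okR693
  · exact okR694
  · exact okR695
  · exact okR696
  · exact okR697
  · exact okR698
  · exact okR699
  · exact okR700
  · exact okR701
  · exact okR702
  · exact okR703
  · exact okR704
  · exact okR705
  · exact okR706
  · exact okR707
  · exact okR708
  · exact okR709
  · exact okR710
  · exact okR711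
  · exact okR712
  · exact okR713
  · exact okR714
  · exact okR715
  · exact okR716
  · exact okR717
  · exact okR718
  · exact okR719
  · exact okR720
  · exact okR721
  · exact okR722
  · exact okR723
  · exact okR724
  · exact okR725
  · exact okR726
  · exact okR727
  · exact okR728
  · exact okR729
  · exact okR730
  · exact okR731
  · exact okR732
  · exact okR733
  · exact okR734
  · exact okR735
  · exact okR736
  · exact okR737
  · exact okR738
  · exact okR739
  · exact okR740
  · exact okR741
  · exact okR742
  · exact okR743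
  · exact okR744
  · exact okR745
  · exact okR746
  · exact okR747
  · exact okR748
  · exact okR749
  · exact okR750
  · exact okR751
  · exact okR752
  · exact okR753
  · exact okR754
  · exact okR755
  · exact okR756
  · exact okR757
  · exact okR758
  · exact okR759
  · exact okR760
  · exact okR761
  · exact okR762
  · exact okR763
  · exact okR764
  · exact okR765
  · exact okR766
  · exact okR767
  · exact okR768
  · exact okR769
  · exact okR770
  · exact okR771
  · exact okR772
  · exact okR773
  · exact okR774
  · exact okR775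
  · exact okR776
  · exact okR777
  · exact okR778
  · exact okR779
  · exact okR780
  · exact okR781
  · exact okR782
  · exact okR783
  · exact okR784
  · exact okR785
  · exact okR786
  · exact okR787
  · exact okR788
  · exact okR789
  · exact okR790
  · exact okR791
  · exact okR792
  · exact okR793
  · exact okR794
  · exact okR795
  · exact okR796
  · exact okR797
  · exact okR798
  · exact okR799
  · exact okR800
  · exact okR801
  · exact okR802
  · exact okR803
  · exact okR804
  · exact okR805
  · exact okR806
  · exact okR807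
  · exact okR808
  · exact okR809
  · exact okR810
  · exact okR811
  · exact okR812
  · exact okR813
  · exact okR814
  · exact okR815
  · exact okR816
  · exact okR817
  · exact okR818
  · exact okR819
  · exact okR820
  · exact okR821
  · exact okR822
  · exact okR823
  · exact okR824
  · exact okR825
  · exact okR826
  · exact okR827
  · exact okR828
  · exact okR829
  · exact okR830
  · exact okR831
  · exact okR832
  · exact okR833
  · exact okR834
  · exact okR835
  · exact okR836
  · exact okR837
  · exact okR838
  · exact okR839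
  · exact okR840
  · exact okR841
  · exact okR842
  · exact okR843
  · exact okR844
  · exact okR845
  · exact okR846
  · exact okR847
  · exact okR848
  · exact okR849
  · exact okR850
  · exact okR851
  · exact okR852
  · exact okR853
  · exact okR854
  · exact okR855
  · exact okR856
  · exact okR857
  · exact okR858
  · exact okR859
  · exact okR860
  · exact okR861
  · exact okR862
  · exact okR863
  · exact okR864
  · exact okR865
  · exact okR866
  · exact okR867
  · exact okR868
  · exact okR869
  · exact okR870
  · exact okR871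
  · exact okR872
  · exact okR873
  · exact okR874
  · exact okR875
  · exact okR876
  · exact okR877
  · exact okR878
  · exact okR879
  · exact okR880
  · exact okR881
  · exact okR882
  · exact okR883
  · exact okR884
  · exact okR885
  · exact okR886
  · exact okR887
  · exact okR888
  · exact okR889
  · exact okR890
  · exact okR891
  · exact okR892
  · exact okR893
  · exact okR894
  · exact okR895
  · exact okR896
  · exact okR897
  · exact okR898
  · exact okR899
  · exact okR900
  · exact okR901
  · exact okR902
  · exact okR903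
  · exact okR904
  · exact okR905
  · exact okR906
  · exact okR907
  · exact okR908
  · exact okR909
  · exact okR910
  · exact okR911
  · exact okR912
  · exact okR913
  · exact okR914
  · exact okR915
  · exact okR916
  · exact okR917
  · exact okR918
  · exact okR919
  · exact okR920
  · exact okR921
  · exact okR922
  · exact okR923
  · exact okR924
  · exact okR925
  · exact okR926
  · exact okR927
  · exact okR928
  · exact okR929
  · exact okR930
  · exact okR931
  · exact okR932
  · exact okR933
  · exact okR934
  · exact okR935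
  · exact okR936
  · exact okR937
  · exact okR938
  · exact okR939
  · exact okR940
  · exact okR941
  · exact okR942
  · exact okR943
  · exact okR944
  · exact okR945
  · exact okR946
  · exact okR947
  · exact okR948
  · exact okR949
  · exact okR950
  · exact okR951
  · exact okR952
  · exact okR953
  · exact okR954
  · exact okR955
  · exact okR956
  · exact okR957
  · exact okR958
  · exact okR959
  · exact okR960
  · exact okR961
  · exact okR962
  · exact okR963
  · exact okR964
  · exact okR965
  · exact okR966
  · exact okR967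
  · exact okR968
  · exact okR969
  · exact okR970
  · exact okR971
  · exact okR972
  · exact okR973
  · exact okR974
  · exact okR975
  · exact okR976
  · exact okR977
  · exact okR978
  · exact okR979
  · exact okR980
  · exact okR981
  · exact okR982
  · exact okR983
  · exact okR984
  · exact okR985
  · exact okR986
  · exact okR987
  · exact okR988
  · exact okR989
  · exact okR990
  · exact okR991
  · exact okR992
  · exact okR993
  · exact okR994
  · exact okR995
  · exact okR996
  · exact okR997
  · exact okR998
  · exact okR999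
  · exact okR1000
  · exact okR1001
  · exact okR1002
  · exact okR1003
  · exact okR1004
  · exact okR1005
  · exact okR1006
  · exact okR1007
  · exact okR1008
  · exact okR1009
  · exact okR1010
  · exact okR1011
  · exact okR1012
  · exact okR1013
  · exact okR1014
  · exact okR1015
  · exact okR1016
  · exact okR1017
  · exact okR1018
  · exact okR1019
  · exact okR1020
  · exact okR1021
  · exact okR1022
  · exact okR1023
  · exact okR1024
  · exact okR1025
  · exact okR1026
  · exact okR1027
  · exact okR1028
  · exact okR1029
  · exact okR1030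
  · exact okR1031
  · exact okR1032
  · exact okR1033
  · exact okR1034
  · exact okR1035
  · exact okR1036
  · exact okR1037
  · exact okR1038
  · exact okR1039
  · exact okR1040
  · exact okR1041
  · exact okR1042
  · exact okR1043
  · exact okR1044
  · exact okR1045
  · exact okR1046
  · exact okR1047
  · exact okR1048
  · exact okR1049
  · exact okR1050
  · exact okR1051
  · exact okR1052
  · exact okR1053
  · exact okR1054
  · exact okR1055
  · exact okR1056
  · exact okR1057
  · exact okR1058
  · exact okR1059
  · exact okR1060
  · exact okR1061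
  · exact okR1062
  · exact okR1063
  · exact okR1064
  · exact okR1065
  · exact okR1066
  · exact okR1067
  · exact okR1068
  · exact okR1069
  · exact okR1070
  · exact okR1071
  · exact okR1072
  · exact okR1073
  · exact okR1074
  · exact okR1075
  · exact okR1076
  · exact okR1077
  · exact okR1078
  · exact okR1079
  · exact okR1080
  · exact okR1081
  · exact okR1082
  · exact okR1083
  · exact okR1084
  · exact okR1085
  · exact okR1086
  · exact okR1087
  · exact okR1088
  · exact okR1089
  · exact okR1090
  · exact okR1091
  · exact okR1092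
  · exact okR1093
  · exact okR1094
  · exact okR1095
  · exact okR1096
  · exact okR1097
  · exact okR1098
  · exact okR1099
  · exact okR1100
  · exact okR1101
  · exact okR1102
  · exact okR1103
  · exact okR1104
  · exact okR1105
  · exact okR1106
  · exact okR1107
  · exact okR1108
  · exact okR1109
  · exact okR1110
  · exact okR1111
  · exact okR1112
  · exact okR1113
  · exact okR1114

theorem okT_all : ∀ p, p < 57 → OKT (p * 20000) 20000 := by
  intro p hp
  interval_cases p
  · exact okT0
  · exact okT1
  · exact okT2
  · exact okT3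
  · exact okT4
  · exact okT5
  · exact okT6
  · exact okT7
  · exact okT8
  · exact okT9
  · exact okT10
  · exact okT11
  · exact okT12
  · exact okT13
  · exact okT14
  · exact okT15
  · exact okT16
  · exact okT17
  · exact okT18
  · exact okT19
  · exact okT20
  · exact okT21
  · exact okT22
  · exact okT23
  · exact okT24
  · exact okT25
  · exact okT26
  · exact okT27
  · exact okT28
  · exact okT29
  · exact okT30
  · exact okT31
  · exact okT32
  · exact okT33
  · exact okT34
  · exact okT35
  · exact okT36
  · exact okT37
  · exact okT38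
  · exact okT39
  · exact okT40
  · exact okT41
  · exact okT42
  · exact okT43
  · exact okT44
  · exact okT45
  · exact okT46
  · exact okT47
  · exact okT48
  · exact okT49
  · exact okT50
  · exact okT51
  · exact okT52
  · exact okT53
  · exact okT54
  · exact okT55
  · exact okT56

theorem okAll : ∀ i l, i < 1123200 → l < 4 → OKE i l := by
  intro i l hi hl
  have hp : i / 1008 < 1115 := by omega
  have h1 : i / 1008 * 1008 ≤ i := Nat.div_mul_le_self i 1008
  have h2 : i < i / 1008 * 1008 + 1008 := by omega
  exact okRowsL_spec (i / 1008 * 1008) 1008 (okR_all (i / 1008) hp) i h1 h2 hi l hl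

theorem treeAll : ∀ j, 0 < j → j < 1123200 → parF j < j := by
  intro j h0 hj
  have hp : j / 20000 < 57 := by omega
  have h1 : j / 20000 * 20000 ≤ j := Nat.div_mul_le_self j 20000
  have h2 : j < j / 20000 * 20000 + 20000 := by omega
  exact okTree_spec (j / 20000 * 20000) 20000 (okT_all (j / 20000) hp) j h1 h2 h0 hj

theorem rotsF_ok : ∀ r, r < 82 → rotsF r = rotL.getD r ([], 0, 0) := by
  have h : (List.range 82).all (fun r => rotsF r == rotL.getD r ([], 0, 0)) = true := by decide +kernel
  intro r hr
  have := forall_lt_of_all h r hr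
  exact beq_iff_eq.mp this

theorem rotL_ok : (List.range 82).all (fun r =>
    rotOKL 4 subs.length 8 67108864 524288 262144 rels (rotL.getD r ([], 0, 0)) (rotIdx.getD r (0, 0))) = true := by
  decide +kernel

theorem subL_ok : (List.range subL.length).all (fun s =>
    subOKL 4 8 67108864 524288 262144 subs (subL.getD s ([], 0, [], 0)) (subIdx.getD s 0)) = true := by
  decide +kernel

theorem subsF_ok : ∀ s, (subsF s).2.1 < 4 → s < subL.length ∧ subsF s = subL.getD s ([], 0, [], 0) := by
  intro s hs
  unfold subsF at hs ⊢
  by_cases h : s < subL.length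
  · refine ⟨h, ?_⟩
    rw [List.getD_eq_getElem _ _ h, List.getD_eq_getElem _ _ h]
  · rw [List.getD_eq_default _ _ (not_lt.mp h)] at hs
    simp at hs

/-- the labelled table is closed, for any group with generators `gc` whose relator values are central. -/
theorem closedL {Γ : Type*} [Group Γ] {C : Type*} [CommGroup C] (gc : ℕ → Γ) (ι : C →* Γ) (gen : ℕ → C)
    (hinv : ∀ l, l < 4 → gc (invF l) = (gc l)⁻¹)
    (hrels : ∀ ρ, ρ < rels.length → prodw gc (rels.getD ρ []) = ι (gen (subs.length + ρ)) ∧
      ∀ g : Γ, Commute (prodw gc (rels.getD ρ [])) g)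
    (hsubs : ∀ s, s < subs.length → prodw gc (subs.getD s []) = ι (gen s)) :
    SemL 1123200 4 4194304 8 67108864 524288 262144 1606938068204233458383403997592367534144462821403519978045440 invF 82 rotsF subsF gc ι gen ∧
      ∀ i l, i < 1123200 → l < 4 → FactL gc ι gen 1123200 2097152 1125899906842624 8 67108864 524288 262144 ent parF pletF i l := by
  have S : SemL 1123200 4 4194304 8 67108864 524288 262144 1606938068204233458383403997592367534144462821403519978045440 invF 82 rotsF subsF gc ι gen :=
    semL_of_data rels subs rotL rotIdx subL subIdx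
      (by intro l hl; interval_cases l <;> decide) hinv (by norm_num) (by norm_num) (by norm_num)
      (by decide +kernel) (by norm_num) (by norm_num) rotsF_ok rotL_ok hrels subsF_ok subL_ok hsubs
  exact ⟨S, closed_of_okL S treeAll okAll⟩


theorem face0 {Γ : Type*} [Group Γ] {C : Type*} [CommGroup C] (gc : ℕ → Γ) (ι : C →* Γ) (gen : ℕ → C)
    (hinv : ∀ l, l < 4 → gc (invF l) = (gc l)⁻¹)
    (hrels : ∀ ρ, ρ < rels.length → prodw gc (rels.getD ρ []) = ι (gen (subs.length + ρ)) ∧
      ∀ g : Γ, Commute (prodw gc (rels.getD ρ [])) g)
    (hsubs : ∀ s, s < subs.length → prodw gc (subs.getD s []) = ι (gen s)) :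
    ι (gen (subs.length + 1)) = ι (dsem gen 262144 2 0 [524288, 524288, 524286, 524288, 524289, 524288, 524288, 524288]) := by
  obtain ⟨S, hcl⟩ := closedL gc ι gen hinv hrels hsubs
  have hw : [2, 2] = (rels.getD 1 []).rotate 0 := by decide
  obtain ⟨h1, h2⟩ := hrels 1 (by decide)
  have hcen : ∀ g : Γ, Commute (prodw gc [2, 2]) g := by
    rw [hw, prodw_rotate_central h2]; exact h2
  have h3 := face_spec S hcl (w := [2, 2]) (b := 4) (expected := 3213876136408466916766807995205017477892577304223787952635904) (by norm_num) (by decide) (by norm_num)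
    [524288, 524288, 524286, 524288, 524289, 524288, 524288, 524288] (by decide) (by decide) (by decide +kernel) hcen okF0
  rw [← h1, ← prodw_rotate_central h2 0, ← hw]
  exact h3


theorem face1 {Γ : Type*} [Group Γ] {C : Type*} [CommGroup C] (gc : ℕ → Γ) (ι : C →* Γ) (gen : ℕ → C)
    (hinv : ∀ l, l < 4 → gc (invF l) = (gc l)⁻¹)
    (hrels : ∀ ρ, ρ < rels.length → prodw gc (rels.getD ρ []) = ι (gen (subs.length + ρ)) ∧
      ∀ g : Γ, Commute (prodw gc (rels.getD ρ [])) g)
    (hsubs : ∀ s, s < subs.length → prodw gc (subs.getD s []) = ι (gen s)) :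
    ι (gen (subs.length + 1)) = ι (dsem gen 262144 2 0 [524288, 524288, 524290, 524288, 524291, 524288, 524286, 524288]) := by
  obtain ⟨S, hcl⟩ := closedL gc ι gen hinv hrels hsubs
  have hw : [2, 2] = (rels.getD 1 []).rotate 0 := by decide
  obtain ⟨h1, h2⟩ := hrels 1 (by decide)
  have hcen : ∀ g : Γ, Commute (prodw gc [2, 2]) g := by
    rw [hw, prodw_rotate_central h2]; exact h2
  have h3 := face_spec S hcl (w := [2, 2]) (b := 27979) (expected := 3213876136408284229062141632380806836495791127708623973122048) (by norm_num) (by decide) (by norm_num)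
    [524288, 524288, 524290, 524288, 524291, 524288, 524286, 524288] (by decide) (by decide) (by decide +kernel) hcen okF1
  rw [← h1, ← prodw_rotate_central h2 0, ← hw]
  exact h3


theorem face2 {Γ : Type*} [Group Γ] {C : Type*} [CommGroup C] (gc : ℕ → Γ) (ι : C →* Γ) (gen : ℕ → C)
    (hinv : ∀ l, l < 4 → gc (invF l) = (gc l)⁻¹)
    (hrels : ∀ ρ, ρ < rels.length → prodw gc (rels.getD ρ []) = ι (gen (subs.length + ρ)) ∧
      ∀ g : Γ, Commute (prodw gc (rels.getD ρ [])) g)
    (hsubs : ∀ s, s < subs.length → prodw gc (subs.getD s []) = ι (gen s)) :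
    ι (gen (subs.length + 1)) = ι (dsem gen 262144 2 0 [524288, 524288, 524287, 524288, 524288, 524292, 524284, 524288]) := by
  obtain ⟨S, hcl⟩ := closedL gc ι gen hinv hrels hsubs
  have hw : [2, 2] = (rels.getD 1 []).rotate 0 := by decide
  obtain ⟨h1, h2⟩ := hrels 1 (by decide)
  have hcen : ∀ g : Γ, Commute (prodw gc [2, 2]) g := by
    rw [hw, prodw_rotate_central h2]; exact h2
  have h3 := face_spec S hcl (w := [2, 2]) (b := 11127) (expected := 3213876136408101541362919787325919162496160561267434636967936) (by norm_num) (by decide) (by norm_num)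
    [524288, 524288, 524287, 524288, 524288, 524292, 524284, 524288] (by decide) (by decide) (by decide +kernel) hcen okF2
  rw [← h1, ← prodw_rotate_central h2 0, ← hw]
  exact h3


theorem face3 {Γ : Type*} [Group Γ] {C : Type*} [CommGroup C] (gc : ℕ → Γ) (ι : C →* Γ) (gen : ℕ → C)
    (hinv : ∀ l, l < 4 → gc (invF l) = (gc l)⁻¹)
    (hrels : ∀ ρ, ρ < rels.length → prodw gc (rels.getD ρ []) = ι (gen (subs.length + ρ)) ∧
      ∀ g : Γ, Commute (prodw gc (rels.getD ρ [])) g)
    (hsubs : ∀ s, s < subs.length → prodw gc (subs.getD s []) = ι (gen s)) :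
    ι (gen (subs.length + 5)) = ι (dsem gen 262144 26 0 [6815744, 6815744, 6815744, 6815746, 6815742, 6815746, 6815747, 6815740]) := by
  obtain ⟨S, hcl⟩ := closedL gc ι gen hinv hrels hsubs
  have hw : [0, 0, 0, 0, 2, 1, 1, 1, 1, 2, 0, 2, 0, 2, 0, 2, 0, 2, 1, 2, 1, 2, 1, 2, 1, 2] = (rels.getD 5 []).rotate 0 := by decide
  obtain ⟨h1, h2⟩ := hrels 5 (by decide)
  have hcen : ∀ g : Γ, Commute (prodw gc [0, 0, 0, 0, 2, 1, 1, 1, 1, 2, 0, 2, 0, 2, 0, 2, 0, 2, 1, 2, 1, 2, 1, 2, 1, 2]) g := by
    rw [hw, prodw_rotate_central h2]; exact h2
  have h3 := face_spec S hcl (w := [0, 0, 0, 0, 2, 1, 1, 1, 1, 2, 0, 2, 0, 2, 0, 2, 0, 2, 1, 2, 1, 2, 1, 2, 1, 2]) (b := 137340) (expected := 41780365253381690095306492007041087362820096325550624209371136) (by norm_num) (by decide) (by norm_num)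
    [6815744, 6815744, 6815744, 6815746, 6815742, 6815746, 6815747, 6815740] (by decide) (by decide) (by decide +kernel) hcen okF3
  rw [← h1, ← prodw_rotate_central h2 0, ← hw]
  exact h3


theorem face4 {Γ : Type*} [Group Γ] {C : Type*} [CommGroup C] (gc : ℕ → Γ) (ι : C →* Γ) (gen : ℕ → C)
    (hinv : ∀ l, l < 4 → gc (invF l) = (gc l)⁻¹)
    (hrels : ∀ ρ, ρ < rels.length → prodw gc (rels.getD ρ []) = ι (gen (subs.length + ρ)) ∧
      ∀ g : Γ, Commute (prodw gc (rels.getD ρ [])) g)
    (hsubs : ∀ s, s < subs.length → prodw gc (subs.getD s []) = ι (gen s)) :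
    ι (gen (subs.length + 0)) = ι (dsem gen 262144 16 0 [4194320, 4194304, 4194304, 4194304, 4194304, 4194304, 4194304, 4194304]) := by
  obtain ⟨S, hcl⟩ := closedL gc ι gen hinv hrels hsubs
  have hw : [0, 0, 0, 0, 0, 0, 0, 0, 0, 0, 0, 0, 0, 0, 0, 0] = (rels.getD 0 []).rotate 0 := by decide
  obtain ⟨h1, h2⟩ := hrels 0 (by decide)
  have hcen : ∀ g : Γ, Commute (prodw gc [0, 0, 0, 0, 0, 0, 0, 0, 0, 0, 0, 0, 0, 0, 0, 0]) g := by
    rw [hw, prodw_rotate_central h2]; exact h2
  have h3 := face_spec S hcl (w := [0, 0, 0, 0, 0, 0, 0, 0, 0, 0, 0, 0, 0, 0, 0, 0]) (b := 0) (expected := 25711009091267735334134463961477880546311405142456319648727056) (by norm_num) (by decide) (by norm_num)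
    [4194320, 4194304, 4194304, 4194304, 4194304, 4194304, 4194304, 4194304] (by decide) (by decide) (by decide +kernel) hcen okF4
  rw [← h1, ← prodw_rotate_central h2 0, ← hw]
  exact h3


theorem face5 {Γ : Type*} [Group Γ] {C : Type*} [CommGroup C] (gc : ℕ → Γ) (ι : C →* Γ) (gen : ℕ → C)
    (hinv : ∀ l, l < 4 → gc (invF l) = (gc l)⁻¹)
    (hrels : ∀ ρ, ρ < rels.length → prodw gc (rels.getD ρ []) = ι (gen (subs.length + ρ)) ∧
      ∀ g : Γ, Commute (prodw gc (rels.getD ρ [])) g)
    (hsubs : ∀ s, s < subs.length → prodw gc (subs.getD s []) = ι (gen s)) :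
    ι (gen (subs.length + 4)) = ι (dsem gen 262144 23 0 [6029312, 6029312, 6029308, 6029313, 6029315, 6029308, 6029318, 6029310]) := by
  obtain ⟨S, hcl⟩ := closedL gc ι gen hinv hrels hsubs
  have hw : [0, 0, 2, 1, 2, 0, 2, 1, 2, 0, 2, 1, 2, 1, 2, 0, 2, 1, 2, 0, 2, 1, 2] = (rels.getD 4 []).rotate 0 := by decide
  obtain ⟨h1, h2⟩ := hrels 4 (by decide)
  have hcen : ∀ g : Γ, Commute (prodw gc [0, 0, 2, 1, 2, 0, 2, 1, 2, 0, 2, 1, 2, 1, 2, 0, 2, 1, 2, 0, 2, 1, 2]) g := by
    rw [hw, prodw_rotate_central h2]; exact h2
  have h3 := face_spec S hcl (w := [0, 0, 2, 1, 2, 0, 2, 1, 2, 0, 2, 1, 2, 1, 2, 0, 2, 1, 2, 0, 2, 1, 2]) (b := 451570) (expected := 36959563308733590678815979648632674678359217002942545247600640) (by norm_num) (by decide) (by norm_num)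
    [6029312, 6029312, 6029308, 6029313, 6029315, 6029308, 6029318, 6029310] (by decide) (by decide) (by decide +kernel) hcen okF5
  rw [← h1, ← prodw_rotate_central h2 0, ← hw]
  exact h3


theorem face6 {Γ : Type*} [Group Γ] {C : Type*} [CommGroup C] (gc : ℕ → Γ) (ι : C →* Γ) (gen : ℕ → C)
    (hinv : ∀ l, l < 4 → gc (invF l) = (gc l)⁻¹)
    (hrels : ∀ ρ, ρ < rels.length → prodw gc (rels.getD ρ []) = ι (gen (subs.length + ρ)) ∧
      ∀ g : Γ, Commute (prodw gc (rels.getD ρ [])) g)
    (hsubs : ∀ s, s < subs.length → prodw gc (subs.getD s []) = ι (gen s)) :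
    ι (gen (subs.length + 4)) = ι (dsem gen 262144 23 0 [6029312, 6029318, 6029317, 6029296, 6029311, 6029317, 6029312, 6029312]) := by
  obtain ⟨S, hcl⟩ := closedL gc ι gen hinv hrels hsubs
  have hw : [0, 0, 2, 1, 2, 0, 2, 1, 2, 0, 2, 1, 2, 1, 2, 0, 2, 1, 2, 0, 2, 1, 2] = (rels.getD 4 []).rotate 0 := by decide
  obtain ⟨h1, h2⟩ := hrels 4 (by decide)
  have hcen : ∀ g : Γ, Commute (prodw gc [0, 0, 2, 1, 2, 0, 2, 1, 2, 0, 2, 1, 2, 1, 2, 0, 2, 1, 2, 0, 2, 1, 2]) g := by
    rw [hw, prodw_rotate_central h2]; exact h2
  have h3 := face_spec S hcl (w := [0, 0, 2, 1, 2, 0, 2, 1, 2, 0, 2, 1, 2, 1, 2, 0, 2, 1, 2, 0, 2, 1, 2]) (b := 58921) (expected := 36959575568697369542825097591942589640152557458065129448669184) (by norm_num) (by decide) (by norm_num)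
    [6029312, 6029318, 6029317, 6029296, 6029311, 6029317, 6029312, 6029312] (by decide) (by decide) (by decide +kernel) hcen okF6
  rw [← h1, ← prodw_rotate_central h2 0, ← hw]
  exact h3


theorem face7 {Γ : Type*} [Group Γ] {C : Type*} [CommGroup C] (gc : ℕ → Γ) (ι : C →* Γ) (gen : ℕ → C)
    (hinv : ∀ l, l < 4 → gc (invF l) = (gc l)⁻¹)
    (hrels : ∀ ρ, ρ < rels.length → prodw gc (rels.getD ρ []) = ι (gen (subs.length + ρ)) ∧
      ∀ g : Γ, Commute (prodw gc (rels.getD ρ [])) g)
    (hsubs : ∀ s, s < subs.length → prodw gc (subs.getD s []) = ι (gen s)) :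
    ι (gen (subs.length + 5)) = ι (dsem gen 262144 26 0 [6815744, 6815750, 6815750, 6815727, 6815744, 6815745, 6815746, 6815746]) := by
  obtain ⟨S, hcl⟩ := closedL gc ι gen hinv hrels hsubs
  have hw : [0, 0, 0, 0, 2, 1, 1, 1, 1, 2, 0, 2, 0, 2, 0, 2, 0, 2, 1, 2, 1, 2, 1, 2, 1, 2] = (rels.getD 5 []).rotate 0 := by decide
  obtain ⟨h1, h2⟩ := hrels 5 (by decide)
  have hcen : ∀ g : Γ, Commute (prodw gc [0, 0, 0, 0, 2, 1, 1, 1, 1, 2, 0, 2, 0, 2, 0, 2, 0, 2, 1, 2, 1, 2, 1, 2, 1, 2]) g := by
    rw [hw, prodw_rotate_central h2]; exact h2
  have h3 := face_spec S hcl (w := [0, 0, 0, 0, 2, 1, 1, 1, 1, 2, 0, 2, 0, 2, 0, 2, 0, 2, 1, 2, 1, 2, 1, 2, 1, 2]) (b := 200321) (expected := 41780402033274579532785398296510232299549510633871105136787456) (by norm_num) (by decide) (by norm_num)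
    [6815744, 6815750, 6815750, 6815727, 6815744, 6815745, 6815746, 6815746] (by decide) (by decide) (by decide +kernel) hcen okF7
  rw [← h1, ← prodw_rotate_central h2 0, ← hw]
  exact h3


theorem face8 {Γ : Type*} [Group Γ] {C : Type*} [CommGroup C] (gc : ℕ → Γ) (ι : C →* Γ) (gen : ℕ → C)
    (hinv : ∀ l, l < 4 → gc (invF l) = (gc l)⁻¹)
    (hrels : ∀ ρ, ρ < rels.length → prodw gc (rels.getD ρ []) = ι (gen (subs.length + ρ)) ∧
      ∀ g : Γ, Commute (prodw gc (rels.getD ρ [])) g)
    (hsubs : ∀ s, s < subs.length → prodw gc (subs.getD s []) = ι (gen s)) :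
    ι (gen (subs.length + 4)) = ι (dsem gen 262144 23 0 [6029312, 6029309, 6029325, 6029318, 6029324, 6029321, 6029288, 6029316]) := by
  obtain ⟨S, hcl⟩ := closedL gc ι gen hinv hrels hsubs
  have hw : [0, 0, 2, 1, 2, 0, 2, 1, 2, 0, 2, 1, 2, 1, 2, 0, 2, 1, 2, 0, 2, 1, 2] = (rels.getD 4 []).rotate 0 := by decide
  obtain ⟨h1, h2⟩ := hrels 4 (by decide)
  have hcen : ∀ g : Γ, Commute (prodw gc [0, 0, 2, 1, 2, 0, 2, 1, 2, 0, 2, 1, 2, 1, 2, 0, 2, 1, 2, 0, 2, 1, 2]) g := by
    rw [hw, prodw_rotate_central h2]; exact h2
  have h3 := face_spec S hcl (w := [0, 0, 2, 1, 2, 0, 2, 1, 2, 0, 2, 1, 2, 1, 2, 0, 2, 1, 2, 0, 2, 1, 2]) (b := 255062) (expected := 36959600088623831144596279489252124864762398686501079921459200) (by norm_num) (by decide) (by norm_num)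
    [6029312, 6029309, 6029325, 6029318, 6029324, 6029321, 6029288, 6029316] (by decide) (by decide) (by decide +kernel) hcen okF8
  rw [← h1, ← prodw_rotate_central h2 0, ← hw]
  exact h3


theorem face9 {Γ : Type*} [Group Γ] {C : Type*} [CommGroup C] (gc : ℕ → Γ) (ι : C →* Γ) (gen : ℕ → C)
    (hinv : ∀ l, l < 4 → gc (invF l) = (gc l)⁻¹)
    (hrels : ∀ ρ, ρ < rels.length → prodw gc (rels.getD ρ []) = ι (gen (subs.length + ρ)) ∧
      ∀ g : Γ, Commute (prodw gc (rels.getD ρ [])) g)
    (hsubs : ∀ s, s < subs.length → prodw gc (subs.getD s []) = ι (gen s)) :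
    ι (gen (subs.length + 5)) = ι (dsem gen 262144 26 0 [6815744, 6815750, 6815761, 6815718, 6815734, 6815748, 6815733, 6815764]) := by
  obtain ⟨S, hcl⟩ := closedL gc ι gen hinv hrels hsubs
  have hw : [0, 0, 0, 0, 2, 1, 1, 1, 1, 2, 0, 2, 0, 2, 0, 2, 0, 2, 1, 2, 1, 2, 1, 2, 1, 2] = (rels.getD 5 []).rotate 0 := by decide
  obtain ⟨h1, h2⟩ := hrels 5 (by decide)
  have hcen : ∀ g : Γ, Commute (prodw gc [0, 0, 0, 0, 2, 1, 1, 1, 1, 2, 0, 2, 0, 2, 0, 2, 0, 2, 1, 2, 1, 2, 1, 2, 1, 2]) g := by
    rw [hw, prodw_rotate_central h2]; exact h2
  have h3 := face_spec S hcl (w := [0, 0, 0, 0, 2, 1, 1, 1, 1, 2, 0, 2, 0, 2, 0, 2, 0, 2, 1, 2, 1, 2, 1, 2, 1, 2]) (b := 46472) (expected := 41780512372952334406706952127075373790689109949590820874616832) (by norm_num) (by decide) (by norm_num)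
    [6815744, 6815750, 6815761, 6815718, 6815734, 6815748, 6815733, 6815764] (by decide) (by decide) (by decide +kernel) hcen okF9
  rw [← h1, ← prodw_rotate_central h2 0, ← hw]
  exact h3

end Cfsg.Agent.Helper9.SchTits
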